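import Mathlib

set_option autoImplicit false

/-!
# Counting in a Steiner system `S(5, 8, 24)`
-/

namespace Cfsg.Agent.Fischer545.Steiner

open Finset

variable {α : Type*} [DecidableEq α]

/-- the blocks of a Steiner system `S(5, 8, 24)` on the set `E` -/
structure IsSteiner (E : Finset α) (B : Finset (Finset α)) : Prop where
  card : E.card = 24
  sub : ∀ O ∈ B, O ⊆ E
  card8 : ∀ O ∈ B, O.card = 8
  ex : ∀ S : Finset α, S ⊆ E → S.card = 5 → ∃ O ∈ B, S ⊆ O
  uniq : ∀ O ∈ B, ∀ O' ∈ B, ∀ S : Finset α, S.card = 5 → S ⊆ O → S ⊆ O' → O = O'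

/-- number of `k`-subsets of `A` containing a given subset `S` -/
theorem card_powersetCard_filter (A S : Finset α) (hS : S ⊆ A) (k : ℕ) (hk : S.card ≤ k) :
    ((powersetCard k A).filter (fun T => S ⊆ T)).card = (A.card - S.card).choose (k - S.card) := by
  have h1 : (powersetCard (k - S.card) (A \ S)).card = (A.card - S.card).choose (k - S.card) := by
    rw [card_powersetCard, card_sdiff_of_subset hS]
  rw [← h1]
  refine card_bij' (fun T _ => T \ S) (fun T _ => T ∪ S) ?_ ?_ ?_ ?_
  · intro T hT
    rw [mem_filter, mem_powersetCard] at hT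
    rw [mem_powersetCard]
    exact ⟨sdiff_subset_sdiff hT.1.1 le_rfl, by rw [card_sdiff_of_subset hT.2, hT.1.2]⟩
  · intro T hT
    rw [mem_powersetCard] at hT
    rw [mem_filter, mem_powersetCard]
    refine ⟨⟨union_subset (hT.1.trans sdiff_subset) hS, ?_⟩, subset_union_right⟩
    rw [card_union_of_disjoint, hT.2]
    · omega
    · exact disjoint_of_subset_left hT.1 sdiff_disjoint
  · intro T hT
    rw [mem_filter] at hT
    exact sdiff_union_of_subset hT.2
  · intro T hT
    rw [mem_powersetCard] at hT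
    exact union_sdiff_cancel_right (disjoint_of_subset_left hT.1 sdiff_disjoint)

variable {E : Finset α} {B : Finset (Finset α)}

theorem IsSteiner.count (h : IsSteiner E B) (S : Finset α) (hS : S ⊆ E) (hS5 : S.card ≤ 5) :
    (B.filter (fun O => S ⊆ O)).card * (8 - S.card).choose (5 - S.card) =
      (24 - S.card).choose (5 - S.card) := by
  have key : (B.filter (fun O => S ⊆ O)).card * (8 - S.card).choose (5 - S.card) =
      ((powersetCard 5 E).filter (fun T => S ⊆ T)).card * 1 := by
    refine card_mul_eq_card_mul (fun O T => T ⊆ O) ?_ ?_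
    · intro O hO
      rw [mem_filter] at hO
      rw [← h.card8 O hO.1, ← card_powersetCard_filter O S hO.2 5 hS5]
      congr 1
      ext T
      simp only [bipartiteAbove, mem_filter, mem_powersetCard]
      constructor
      · rintro ⟨⟨⟨_, h2⟩, h3⟩, h4⟩
        exact ⟨⟨h4, h2⟩, h3⟩
      · rintro ⟨⟨h1, h2⟩, h3⟩
        exact ⟨⟨⟨h1.trans (h.sub O hO.1), h2⟩, h3⟩, h1⟩
    · intro T hT
      rw [mem_filter, mem_powersetCard] at hT
      obtain ⟨O, hO, hTO⟩ := h.ex T hT.1.1 hT.1.2
      rw [card_eq_one]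
      refine ⟨O, ?_⟩
      ext O'
      simp only [bipartiteBelow, mem_filter, mem_singleton]
      constructor
      · rintro ⟨⟨h1, _⟩, h3⟩
        exact h.uniq O' h1 O hO T hT.1.2 h3 hTO
      · rintro rfl
        exact ⟨⟨hO, hT.2.trans hTO⟩, hTO⟩
  rw [key, mul_one, card_powersetCard_filter E S hS 5 hS5, h.card]

theorem IsSteiner.card_blocks (h : IsSteiner E B) : B.card = 759 := by
  have := h.count ∅ (empty_subset _) (by simp)
  simp only [empty_subset, filter_true, card_empty, Nat.sub_zero] at this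
  have h1 : Nat.choose 8 5 = 56 := by decide
  have h2 : Nat.choose 24 5 = 42504 := by decide
  rw [h1, h2] at this
  omega

theorem IsSteiner.card_one (h : IsSteiner E B) {S : Finset α} (hS : S ⊆ E) (h1 : S.card = 1) :
    (B.filter (fun O => S ⊆ O)).card = 253 := by
  have := h.count S hS (by omega)
  rw [h1] at this
  have h1 : Nat.choose 7 4 = 35 := by decide
  have h2 : Nat.choose 23 4 = 8855 := by decide
  simp only [show 8 - 1 = 7 from rfl, show 5 - 1 = 4 from rfl, show 24 - 1 = 23 from rfl, h1, h2]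
    at this
  omega

theorem IsSteiner.card_two (h : IsSteiner E B) {S : Finset α} (hS : S ⊆ E) (h1 : S.card = 2) :
    (B.filter (fun O => S ⊆ O)).card = 77 := by
  have := h.count S hS (by omega)
  rw [h1] at this
  have h1 : Nat.choose 6 3 = 20 := by decide
  have h2 : Nat.choose 22 3 = 1540 := by decide
  simp only [show 8 - 2 = 6 from rfl, show 5 - 2 = 3 from rfl, show 24 - 2 = 22 from rfl, h1, h2]
    at this
  omega

theorem IsSteiner.card_three (h : IsSteiner E B) {S : Finset α} (hS : S ⊆ E) (h1 : S.card = 3) :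
    (B.filter (fun O => S ⊆ O)).card = 21 := by
  have := h.count S hS (by omega)
  rw [h1] at this
  have h1 : Nat.choose 5 2 = 10 := by decide
  have h2 : Nat.choose 21 2 = 210 := by decide
  simp only [show 8 - 3 = 5 from rfl, show 5 - 3 = 2 from rfl, show 24 - 3 = 21 from rfl, h1, h2]
    at this
  omega

theorem IsSteiner.card_four (h : IsSteiner E B) {S : Finset α} (hS : S ⊆ E) (h1 : S.card = 4) :
    (B.filter (fun O => S ⊆ O)).card = 5 := by
  have := h.count S hS (by omega)
  rw [h1] at this
  have h1 : Nat.choose 4 1 = 4 := by decide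
  have h2 : Nat.choose 20 1 = 20 := by decide
  simp only [show 8 - 4 = 4 from rfl, show 5 - 4 = 1 from rfl, show 24 - 4 = 20 from rfl, h1, h2]
    at this
  omega

theorem IsSteiner.card_big (h : IsSteiner E B) {O : Finset α} (hO : O ∈ B) {S : Finset α}
    (hS : S ⊆ O) (h5 : 5 ≤ S.card) : (B.filter (fun O => S ⊆ O)).card = 1 := by
  rw [card_eq_one]
  refine ⟨O, ?_⟩
  obtain ⟨T, hTS, hT⟩ := exists_subset_card_eq h5
  ext O'
  rw [mem_filter, mem_singleton]
  constructor
  · rintro ⟨h1, h2⟩
    exact h.uniq O' h1 O hO T hT (hTS.trans h2) (hTS.trans hS)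
  · rintro rfl
    exact ⟨hO, hS⟩

/-- the number of blocks containing a subset `S` of a block, depending on the size of `S` -/
def num (k : ℕ) : ℕ :=
  if k = 0 then 759 else if k = 1 then 253 else if k = 2 then 77 else if k = 3 then 21 else
    if k = 4 then 5 else 1

theorem IsSteiner.card_num (h : IsSteiner E B) {O : Finset α} (hO : O ∈ B) {S : Finset α}
    (hS : S ⊆ O) : (B.filter (fun O => S ⊆ O)).card = num S.card := by
  have hSE : S ⊆ E := hS.trans (h.sub O hO)
  unfold num
  split_ifs with h0 h1 h2 h3 h4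
  · rw [card_eq_zero] at h0
    subst h0
    simp only [empty_subset, filter_true]
    exact h.card_blocks
  · exact h.card_one hSE h1
  · exact h.card_two hSE h2
  · exact h.card_three hSE h3
  · exact h.card_four hSE h4
  · exact h.card_big hO hS (by omega)

/-- thirty blocks are disjoint from a given block -/
theorem IsSteiner.card_disjoint (h : IsSteiner E B) {O : Finset α} (hO : O ∈ B) :
    (B.filter (fun O' => Disjoint O O')).card = 30 := by
  have h1 : ((B.filter (fun O' => Disjoint O O')).card : ℤ) =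
      ∑ O' ∈ B, ∑ S ∈ (O ∩ O').powerset, (-1 : ℤ) ^ S.card := by
    rw [card_filter, Nat.cast_sum]
    refine sum_congr rfl fun O' _ => ?_
    rw [sum_powerset_neg_one_pow_card]
    by_cases hd : Disjoint O O'
    · rw [if_pos hd, if_pos (disjoint_iff_inter_eq_empty.1 hd)]
      rfl
    · rw [if_neg hd, if_neg (fun h => hd (disjoint_iff_inter_eq_empty.2 h))]
      rfl
  have h2 : ∑ O' ∈ B, ∑ S ∈ (O ∩ O').powerset, (-1 : ℤ) ^ S.card =
      ∑ S ∈ O.powerset, (-1 : ℤ) ^ S.card * (num S.card : ℤ) := by
    have : ∀ O' ∈ B, ∑ S ∈ (O ∩ O').powerset, (-1 : ℤ) ^ S.card =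
        ∑ S ∈ O.powerset, if S ⊆ O' then (-1 : ℤ) ^ S.card else 0 := by
      intro O' _
      rw [← sum_filter]
      refine sum_congr ?_ fun _ _ => rfl
      ext S
      rw [mem_powerset, mem_filter, mem_powerset, subset_inter_iff]
    rw [sum_congr rfl this, sum_comm]
    refine sum_congr rfl fun S hS => ?_
    rw [← h.card_num hO (mem_powerset.1 hS), ← sum_filter, sum_const, nsmul_eq_mul, mul_comm]
  have h3 := sum_powerset_apply_card (fun k => (-1 : ℤ) ^ k * (num k : ℤ)) (x := O)
  rw [h.card8 O hO] at h3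
  have h4 : ∑ m ∈ range (8 + 1), (Nat.choose 8 m) • ((-1 : ℤ) ^ m * (num m : ℤ)) = 30 := by
    decide
  have h5 : ((B.filter (fun O' => Disjoint O O')).card : ℤ) = 30 := by
    rw [h1, h2, h3, h4]
  exact_mod_cast h5

end Cfsg.Agent.Fischer545.Steiner
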