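import Mathlib
import Cfsg.Agent.Fischer545.Steiner
import Cfsg.Agent.SporadicStructure.FischerSpace

set_option autoImplicit false

/-!
# Combinatorics of the bases (maximal commuting sets) of the Fischer space of `Fi24`
-/

namespace Cfsg.Agent.Fischer545.Comb

open Finset Cfsg Cfsg.Agent.SporadicStructure.FischerSpace Cfsg.Agent.Fischer545.Steiner
open scoped Classical

noncomputable section

variable {G : Type*} [Group G] [Fintype G] (D : Set G)

/-- maximal commuting subsets of `D` -/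
structure IsBase (E : Finset G) : Prop where
  sub : ∀ a ∈ E, a ∈ D
  comm : ∀ a ∈ E, ∀ b ∈ E, Commute a b
  max : ∀ g ∈ D, (∀ a ∈ E, Commute g a) → g ∈ E

/-- closure: the double commutant in `D` -/
def cl (S : Finset G) : Finset G :=
  univ.filter (fun g => g ∈ D ∧ ∀ d ∈ D, (∀ s ∈ S, Commute d s) → Commute g d)

/-- the members of `E` commuting with `d` -/
def CP (d : G) (E : Finset G) : Finset G := E.filter (fun e => Commute d e)

/-- the octads of `E` -/
def Oct (E : Finset G) : Finset (Finset G) := (powersetCard 5 E).image (cl D)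

/-- `Δ_O` -/
def Del (E O : Finset G) : Finset G := univ.filter (fun d => d ∈ D ∧ d ∉ E ∧ CP d E = O)

/-- the local data used -/
structure T8Data : Prop where
  fd : FData D
  card : (univ.filter (fun d => d ∈ D)).card = 306936
  card2 : ∀ x ∈ D, ∀ y ∈ D, x ≠ y → Commute x y →
    (univ.filter (fun d => d ∈ D ∧ d ≠ x ∧ d ≠ y ∧ Commute d x ∧ Commute d y)).card = 3510
  base24 : ∀ E, IsBase D E → E.card = 24
  cl5 : ∀ E, IsBase D E → ∀ S, S ⊆ E → S.card = 5 → (cl D S).card = 8
  three : ∀ E, IsBase D E → ∀ d ∈ D, d ∉ E → 3 ≤ (CP d E).card → CP d E ∈ Oct D E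
  split : ∀ E, IsBase D E → ∀ O ∈ Oct D E, ∃ B₁ B₂ : Finset G, Disjoint B₁ B₂ ∧
    B₁.card = 16 ∧ B₂.card = 16 ∧ B₁ ∪ B₂ = Del D E O ∧ IsBase D (O ∪ B₁) ∧ IsBase D (O ∪ B₂)

variable {D}

theorem mem_cl {S : Finset G} {g : G} :
    g ∈ cl D S ↔ g ∈ D ∧ ∀ d ∈ D, (∀ s ∈ S, Commute d s) → Commute g d := by
  simp [cl]

omit [Fintype G] in
theorem mem_CP {d e : G} {E : Finset G} : e ∈ CP d E ↔ e ∈ E ∧ Commute d e := by
  simp [CP]

theorem mem_Del {E O : Finset G} {d : G} : d ∈ Del D E O ↔ d ∈ D ∧ d ∉ E ∧ CP d E = O := by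
  simp [Del]

theorem subset_cl {S : Finset G} (hS : ∀ a ∈ S, a ∈ D) : S ⊆ cl D S := by
  intro s hs
  rw [mem_cl]
  exact ⟨hS s hs, fun d _ hd => (hd s hs).symm⟩

theorem cl_mono {S T : Finset G} (h : S ⊆ T) : cl D S ⊆ cl D T := by
  intro g hg
  rw [mem_cl] at hg ⊢
  exact ⟨hg.1, fun d hd hdT => hg.2 d hd fun s hs => hdT s (h hs)⟩

theorem cl_cl (S : Finset G) : cl D (cl D S) ⊆ cl D S := by
  intro g hg
  rw [mem_cl] at hg ⊢
  exact ⟨hg.1, fun d hd hdS => hg.2 d hd fun c hc => ((mem_cl.1 hc).2 d hd hdS).symm⟩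

theorem IsBase.cl_sub {E S : Finset G} (hE : IsBase D E) (hS : S ⊆ E) : cl D S ⊆ E := by
  intro g hg
  rw [mem_cl] at hg
  exact hE.max g hg.1 fun e he => hg.2 e (hE.sub e he) fun s hs => hE.comm e he s (hS hs)

theorem mem_Oct {E O : Finset G} : O ∈ Oct D E ↔ ∃ S, S ⊆ E ∧ S.card = 5 ∧ cl D S = O := by
  simp only [Oct, mem_image, mem_powersetCard, and_assoc]

theorem T8Data.steiner (h : T8Data D) {E : Finset G} (hE : IsBase D E) :
    IsSteiner E (Oct D E) where
  card := h.base24 E hE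
  sub := by
    intro O hO
    obtain ⟨S, hS, _, rfl⟩ := mem_Oct.1 hO
    exact hE.cl_sub hS
  card8 := by
    intro O hO
    obtain ⟨S, hS, h5, rfl⟩ := mem_Oct.1 hO
    exact h.cl5 E hE S hS h5
  ex := by
    intro S hS h5
    exact ⟨cl D S, mem_Oct.2 ⟨S, hS, h5, rfl⟩, subset_cl fun a ha => hE.sub a (hS ha)⟩
  uniq := by
    have key : ∀ O ∈ Oct D E, ∀ S : Finset G, S.card = 5 → S ⊆ O → cl D S = O := by
      intro O hO S h5 hSO
      obtain ⟨T, hT, hT5, rfl⟩ := mem_Oct.1 hO
      have h1 : cl D S ⊆ cl D T := (cl_mono hSO).trans (cl_cl T)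
      refine eq_of_subset_of_card_le h1 ?_
      rw [h.cl5 E hE T hT hT5, h.cl5 E hE S (hSO.trans (hE.cl_sub hT)) h5]
    intro O hO O' hO' S h5 h1 h2
    rw [← key O hO S h5 h1, key O' hO' S h5 h2]

/-- `d ∉ E` has empty or `Δ`-membership -/
theorem T8Data.card_Del (h : T8Data D) {E O : Finset G} (hE : IsBase D E) (hO : O ∈ Oct D E) :
    (Del D E O).card = 32 := by
  obtain ⟨B₁, B₂, hd, h1, h2, h3, -, -⟩ := h.split E hE O hO
  rw [← h3, card_union_of_disjoint hd, h1, h2]

theorem T8Data.card_Del_two (h : T8Data D) {E T : Finset G} (hE : IsBase D E) (hT : T ⊆ E)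
    (hT2 : T.card = 2) : (Del D E T).card = 1024 := by
  obtain ⟨x, y, hxy, rfl⟩ := card_eq_two.1 hT2
  have hx : x ∈ E := hT (by simp)
  have hy : y ∈ E := hT (by simp)
  have hst := h.steiner hE
  set A := univ.filter (fun d => d ∈ D ∧ d ∉ E ∧ Commute d x ∧ Commute d y) with hA
  -- size of `A`
  have h1 : A.card = 3488 := by
    have h2 := h.card2 x (hE.sub x hx) y (hE.sub y hy) hxy (hE.comm x hx y hy)
    have h3 : univ.filter (fun d => d ∈ D ∧ d ≠ x ∧ d ≠ y ∧ Commute d x ∧ Commute d y) =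
        A ∪ (E \ {x, y}) := by
      ext d
      simp only [hA, mem_filter, mem_univ, true_and, mem_union, mem_sdiff, mem_insert,
        mem_singleton, not_or]
      constructor
      · rintro ⟨h4, h5, h6, h7, h8⟩
        by_cases hdE : d ∈ E
        · exact Or.inr ⟨hdE, h5, h6⟩
        · exact Or.inl ⟨h4, hdE, h7, h8⟩
      · rintro (⟨h4, h5, h6, h7⟩ | ⟨h4, h5, h6⟩)
        · refine ⟨h4, ?_, ?_, h6, h7⟩
          · rintro rfl; exact h5 hx
          · rintro rfl; exact h5 hy
        · exact ⟨hE.sub d h4, h5, h6, hE.comm d h4 x hx, hE.comm d h4 y hy⟩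
    rw [h3, card_union_of_disjoint, card_sdiff_of_subset hT, hT2, h.base24 E hE] at h2
    · omega
    · rw [disjoint_left]
      intro d hd hd'
      rw [hA, mem_filter] at hd
      exact hd.2.2.1 (mem_sdiff.1 hd').1
  have hCP : ∀ d ∈ A, {x, y} ⊆ CP d E := by
    intro d hd
    rw [hA, mem_filter] at hd
    intro z hz
    rw [mem_insert, mem_singleton] at hz
    rcases hz with rfl | rfl
    · exact mem_CP.2 ⟨hx, hd.2.2.2.1⟩
    · exact mem_CP.2 ⟨hy, hd.2.2.2.2⟩
  set I := (Oct D E).filter (fun O => {x, y} ⊆ O) with hI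
  have hmaps : ∀ d ∈ A, CP d E ∈ insert {x, y} I := by
    intro d hd
    rw [mem_insert]
    by_cases h3 : 3 ≤ (CP d E).card
    · right
      rw [hI, mem_filter]
      rw [hA, mem_filter] at hd
      exact ⟨h.three E hE d hd.2.1 hd.2.2.1 h3, hCP d (by rw [hA, mem_filter]; exact hd)⟩
    · left
      symm
      refine eq_of_subset_of_card_le (hCP d hd) ?_
      omega
  have h2 := card_eq_sum_card_fiberwise (s := A) (t := insert {x, y} I) (f := fun d => CP d E)
    (fun d hd => by exact_mod_cast hmaps d (by exact_mod_cast hd))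
  have hnot : ({x, y} : Finset G) ∉ I := by
    intro h3
    rw [hI, mem_filter] at h3
    have := hst.card8 _ h3.1
    omega
  rw [sum_insert hnot] at h2
  have h3 : ∀ T ∈ insert {x, y} I, (A.filter (fun d => CP d E = T)) = Del D E T := by
    intro T hT
    have hT' : {x, y} ⊆ T := by
      rw [mem_insert] at hT
      rcases hT with rfl | hT
      · exact Subset.refl _
      · rw [hI, mem_filter] at hT
        exact hT.2
    ext d
    rw [mem_filter, mem_Del, hA, mem_filter]
    constructor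
    · rintro ⟨⟨_, h4, h5, _⟩, h6⟩
      exact ⟨h4, h5, h6⟩
    · rintro ⟨h4, h5, h6⟩
      rw [← h6] at hT'
      exact ⟨⟨mem_univ _, h4, h5, (mem_CP.1 (hT' (by simp : x ∈ ({x, y} : Finset G)))).2,
        (mem_CP.1 (hT' (by simp : y ∈ ({x, y} : Finset G)))).2⟩, h6⟩
  rw [h3 _ (mem_insert_self _ _), sum_congr rfl (g := fun _ => 32), sum_const, smul_eq_mul] at h2
  · have h4 := hst.card_two hT hT2
    rw [← hI] at h4
    rw [h4, h1] at h2
    omega
  · intro T hT
    rw [h3 T (mem_insert_of_mem hT)]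
    rw [hI, mem_filter] at hT
    exact h.card_Del hE hT.1

/-- **Every element of `D` outside `E` commutes with exactly 2 members of `E` or with an octad.** -/
theorem T8Data.two_or_oct (h : T8Data D) {E : Finset G} (hE : IsBase D E) {d : G} (hd : d ∈ D)
    (hdE : d ∉ E) : (CP d E).card = 2 ∨ CP d E ∈ Oct D E := by
  have hst := h.steiner hE
  set A := univ.filter (fun d => d ∈ D ∧ d ∉ E) with hA
  have h1 : A.card = 306912 := by
    have h2 := h.card
    have h3 : univ.filter (fun d => d ∈ D) = A ∪ E := by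
      ext d
      simp only [hA, mem_filter, mem_univ, true_and, mem_union]
      constructor
      · intro h4
        by_cases hdE : d ∈ E
        · exact Or.inr hdE
        · exact Or.inl ⟨h4, hdE⟩
      · rintro (h4 | h4)
        · exact h4.1
        · exact hE.sub d h4
    rw [h3, card_union_of_disjoint, h.base24 E hE] at h2
    · omega
    · rw [disjoint_left]
      intro d hd hd'
      rw [hA, mem_filter] at hd
      exact hd.2.2 hd'
  set I := powersetCard 2 E ∪ Oct D E with hI
  set A' := A.filter (fun d => CP d E ∈ I) with hA'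
  have h2 := card_eq_sum_card_fiberwise (s := A') (t := I) (f := fun d => CP d E)
    (fun d hd => by
      have : d ∈ A' := by exact_mod_cast hd
      rw [hA', mem_filter] at this
      exact_mod_cast this.2)
  have hdis : Disjoint (powersetCard 2 E) (Oct D E) := by
    rw [disjoint_left]
    intro T hT hT'
    have := hst.card8 T hT'
    rw [mem_powersetCard] at hT
    omega
  have h3 : ∀ T ∈ I, A'.filter (fun d => CP d E = T) = Del D E T := by
    intro T hT
    ext d
    rw [mem_filter, mem_Del, hA', mem_filter, hA, mem_filter]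
    constructor
    · rintro ⟨⟨⟨_, h4, h5⟩, _⟩, h6⟩
      exact ⟨h4, h5, h6⟩
    · rintro ⟨h4, h5, h6⟩
      exact ⟨⟨⟨mem_univ _, h4, h5⟩, h6 ▸ hT⟩, h6⟩
  rw [sum_congr rfl fun T hT => by rw [h3 T hT]] at h2
  rw [hI, sum_union hdis, sum_congr rfl (g := fun _ => 1024), sum_const, smul_eq_mul,
    card_powersetCard, h.base24 E hE, sum_congr rfl (g := fun _ => 32), sum_const, smul_eq_mul,
    hst.card_blocks] at h2
  rotate_left
  · intro T hT
    exact h.card_Del hE hT
  · intro T hT
    rw [mem_powersetCard] at hT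
    exact h.card_Del_two hE hT.1 hT.2
  have h4 : Nat.choose 24 2 = 276 := by decide
  rw [h4] at h2
  have h5 : A' = A := by
    apply eq_of_subset_of_card_le (filter_subset _ _)
    rw [h1, h2]
  have h6 : d ∈ A' := by
    rw [h5, hA, mem_filter]
    exact ⟨mem_univ _, hd, hdE⟩
  rw [hA', mem_filter, hI, mem_union, mem_powersetCard] at h6
  rcases h6.2 with h7 | h7
  · exact Or.inl h7.2
  · exact Or.inr h7

theorem T8Data.two_or_eight (h : T8Data D) {E : Finset G} (hE : IsBase D E) {d : G} (hd : d ∈ D)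
    (hdE : d ∉ E) : (CP d E).card = 2 ∨ (CP d E).card = 8 := by
  rcases h.two_or_oct hE hd hdE with h1 | h1
  · exact Or.inl h1
  · exact Or.inr ((h.steiner hE).card8 _ h1)

end

end Cfsg.Agent.Fischer545.Comb
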