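import Mathlib
import Cfsg.Agent.Fischer545.Comb

set_option autoImplicit false

/-!
# The commuting relation between `Δ_O` and `Δ_{O'}` for disjoint octads
-/

namespace Cfsg.Agent.Fischer545.Comb

open Finset Cfsg Cfsg.Agent.SporadicStructure.FischerSpace Cfsg.Agent.Fischer545.Steiner
open scoped Classical

noncomputable section

variable {G : Type*} [Group G] {D : Set G}

/-- `e * d * e ∈ C` and `e ↦ e * d * e` is injective on elements not commuting with `d` -/
theorem conj_inj (h : FData D) {d e f : G} (hd : d ∈ D) (he : e ∈ D) (hf : f ∈ D)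
    (hed : ¬ Commute e d) (hfd : ¬ Commute f d) (hef : e * d * e = f * d * f) : e = f := by
  rw [h.braid e he d hd hed, h.braid f hf d hd hfd] at hef
  have := mul_right_cancel hef
  exact mul_left_cancel this

theorem not_commute_conj (h : FData D) {d e : G} (hd : d ∈ D) (he : e ∈ D)
    (hed : ¬ Commute e d) : ¬ Commute d (e * d * e) := by
  intro hc
  rw [h.braid e he d hd hed] at hc
  apply hed
  have h1 : d * (d * e * d) = d * e * d * d := hc
  have h2 : d * (d * e * d) = e * d := by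
    rw [← mul_assoc, ← mul_assoc, h.sq d hd, one_mul]
  have h3 : d * e * d * d = d * e := by rw [mul_assoc (d * e), h.sq d hd, mul_one]
  rw [h2, h3] at h1
  exact h1

variable [Fintype G]

/-- conjugation by a member of `E` preserves `Δ_O` -/
theorem conj_mem_Del (h : FData D) {E O : Finset G} (hE : IsBase D E) {d e : G}
    (hd : d ∈ Del D E O) (he : e ∈ E) : e * d * e ∈ Del D E O := by
  rw [mem_Del] at hd ⊢
  obtain ⟨h1, h2, h3⟩ := hd
  have heD := hE.sub e he
  refine ⟨h.conj' heD h1, ?_, ?_⟩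
  · intro h4
    apply h2
    have h5 := (h.commute_iff heD (e * d * e)).1 (hE.comm e he _ h4)
    rw [h.conj_conj heD] at h5
    rw [h5]
    exact h4
  · rw [← h3]
    ext f
    rw [mem_CP, mem_CP]
    refine and_congr_right fun hf => ?_
    rw [h.commute_conj_left_iff heD, (h.commute_iff heD f).1 (hE.comm e he f hf)]

/-- the members of `Δ_O` commuting with `d` -/
def Nb (D : Set G) (E O : Finset G) (d : G) : Finset G :=
  (Del D E O).filter (fun a => Commute a d)

theorem mem_Nb {E O : Finset G} {d a : G} :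
    a ∈ Nb D E O d ↔ a ∈ Del D E O ∧ Commute a d := by
  simp [Nb]

/-- the set generated from `d` by the conjugations with members of `O'` -/
def RR (O' : Finset G) (d : G) : Finset G :=
  O'.image (fun e => e * d * e) ∪ (O' ×ˢ O').image (fun p => p.2 * (p.1 * d * p.1) * p.2)

theorem claimA (h : T8Data D) {E : Finset G} (hE : IsBase D E) {O O' : Finset G}
    (hO : O ∈ Oct D E) (hO' : O' ∈ Oct D E) (hd : Disjoint O O') {B C : Finset G}
    (hBC : B ∪ C = Del D E O) (hB : IsBase D (O ∪ B)) {d d' : G} (hd' : d' ∈ Del D E O')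
    (hdB : d ∈ B) (hc : Commute d d') :
    O'.image (fun e => e * d * e) ⊆ C.filter (fun a => Commute a d') ∧
      (O'.image (fun e => e * d * e)).card = 8 := by
  have hst := h.steiner hE
  have hdD : d ∈ Del D E O := hBC ▸ mem_union_left C hdB
  have hdD' := mem_Del.1 hdD
  have hd'' := mem_Del.1 hd'
  have hOE' : ∀ e ∈ O', e ∈ E := fun e he => hst.sub O' hO' he
  have hnc : ∀ e ∈ O', ¬ Commute e d := by
    intro e he hc'
    have : e ∈ CP d E := mem_CP.2 ⟨hOE' e he, hc'.symm⟩
    rw [hdD'.2.2] at this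
    exact disjoint_left.1 hd this he
  constructor
  · intro x hx
    obtain ⟨e, he, rfl⟩ := mem_image.1 hx
    have heD := hE.sub e (hOE' e he)
    rw [mem_filter]
    constructor
    · have h1 := conj_mem_Del h.fd hE hdD (hOE' e he)
      rw [← hBC, mem_union] at h1
      rcases h1 with h1 | h1
      · exfalso
        exact not_commute_conj h.fd hdD'.1 heD (hnc e he)
          (hB.comm d (mem_union_right O hdB) _ (mem_union_right O h1))
      · exact h1
    · rw [h.fd.commute_conj_left_iff heD]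
      have h1 : Commute e d' := by
        have : e ∈ CP d' E := by rw [hd''.2.2]; exact he
        exact (mem_CP.1 this).2.symm
      rw [(h.fd.commute_iff heD d').1 h1]
      exact hc
  · rw [card_image_of_injOn, hst.card8 O' hO']
    intro e he f hf hef
    have he' : e ∈ O' := by exact_mod_cast he
    have hf' : f ∈ O' := by exact_mod_cast hf
    exact conj_inj h.fd hdD'.1 (hE.sub e (hOE' e he')) (hE.sub f (hOE' f hf')) (hnc e he')
      (hnc f hf') hef

/-- the neighbours of `d' ∈ Δ_{O'}` in `B` -/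
theorem card_part (h : T8Data D) {E : Finset G} (hE : IsBase D E) {O O' : Finset G}
    (hO : O ∈ Oct D E) (hO' : O' ∈ Oct D E) (hd : Disjoint O O') {B C : Finset G}
    (hBC : B ∪ C = Del D E O) (hB : IsBase D (O ∪ B)) {d' : G} (hd' : d' ∈ Del D E O') :
    (B.filter (fun a => Commute a d')).card = 2 ∨ (B.filter (fun a => Commute a d')).card = 8 := by
  have hst := h.steiner hE
  have hd'' := mem_Del.1 hd'
  have hne : O ≠ O' := by
    rintro rfl
    rw [disjoint_self_iff_empty] at hd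
    have := hst.card8 O hO
    rw [hd, card_empty] at this
    omega
  have hnot : d' ∉ O ∪ B := by
    rw [mem_union, not_or]
    constructor
    · intro h1
      exact hd''.2.1 (hst.sub O hO h1)
    · intro h1
      have h2 : d' ∈ Del D E O := hBC ▸ mem_union_left C h1
      exact hne ((mem_Del.1 h2).2.2.symm.trans hd''.2.2)
  have heq : CP d' (O ∪ B) = B.filter (fun a => Commute a d') := by
    ext a
    rw [mem_CP, mem_union, mem_filter]
    constructor
    · rintro ⟨h1 | h1, h2⟩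
      · exfalso
        have : a ∈ CP d' E := mem_CP.2 ⟨hst.sub O hO h1, h2⟩
        rw [hd''.2.2] at this
        exact disjoint_left.1 hd h1 this
      · exact ⟨h1, h2.symm⟩
    · rintro ⟨h1, h2⟩
      exact ⟨Or.inr h1, h2.symm⟩
  have := h.two_or_eight hB hd''.1 hnot
  rwa [heq] at this

theorem Nb_aux (h : T8Data D) {E : Finset G} (hE : IsBase D E) {O O' : Finset G}
    (hO : O ∈ Oct D E) (hO' : O' ∈ Oct D E) (hd : Disjoint O O') {d' : G}
    (hd' : d' ∈ Del D E O') :
    (Nb D E O d').card = 16 ∧ ∀ d ∈ Nb D E O d', Nb D E O d' = RR O' d := by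
  have hst := h.steiner hE
  obtain ⟨B₁, B₂, hdis, -, -, hB, hb1, hb2⟩ := h.split E hE O hO
  set P₁ := B₁.filter (fun a => Commute a d') with hP1
  set P₂ := B₂.filter (fun a => Commute a d') with hP2
  have hB' : B₂ ∪ B₁ = Del D E O := by rw [union_comm]; exact hB
  have hN : Nb D E O d' = P₁ ∪ P₂ := by
    rw [Nb, ← hB, filter_union]
  have hdisP : Disjoint P₁ P₂ := disjoint_filter_filter hdis
  have c1 := card_part h hE hO hO' hd hB hb1 hd'
  have c2 := card_part h hE hO hO' hd hB' hb2 hd'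
  rw [← hP1] at c1
  rw [← hP2] at c2
  -- going from `P₁` to `P₂`
  have g1 : ∀ d ∈ P₁, O'.image (fun e => e * d * e) = P₂ ∧ P₂.card = 8 := by
    intro d hdP
    rw [hP1, mem_filter] at hdP
    obtain ⟨h1, h2⟩ := claimA h hE hO hO' hd hB hb1 hd' hdP.1 hdP.2
    rw [← hP2] at h1
    have h3 := card_le_card h1
    have h4 : P₂.card = 8 := by omega
    exact ⟨eq_of_subset_of_card_le h1 (by omega), h4⟩
  have g2 : ∀ d ∈ P₂, O'.image (fun e => e * d * e) = P₁ ∧ P₁.card = 8 := by
    intro d hdP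
    rw [hP2, mem_filter] at hdP
    obtain ⟨h1, h2⟩ := claimA h hE hO hO' hd hB' hb2 hd' hdP.1 hdP.2
    rw [← hP1] at h1
    have h3 := card_le_card h1
    have h4 : P₁.card = 8 := by omega
    exact ⟨eq_of_subset_of_card_le h1 (by omega), h4⟩
  obtain ⟨d1, hd1⟩ : P₁.Nonempty := card_pos.1 (by omega)
  obtain ⟨d2, hd2⟩ : P₂.Nonempty := card_pos.1 (by omega)
  have k2 := (g1 d1 hd1).2
  have k1 := (g2 d2 hd2).2
  refine ⟨by rw [hN, card_union_of_disjoint hdisP, k1, k2], ?_⟩
  obtain ⟨e0, he0⟩ : O'.Nonempty := card_pos.1 (by have := hst.card8 O' hO'; omega)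
  have step : ∀ (P Q : Finset G), (∀ d ∈ P, O'.image (fun e => e * d * e) = Q) →
      (∀ d ∈ Q, O'.image (fun e => e * d * e) = P) → ∀ d ∈ P, RR O' d = Q ∪ P := by
    intro P Q hPQ hQP d hdP
    rw [RR, hPQ d hdP]
    congr 1
    ext x
    rw [mem_image]
    constructor
    · rintro ⟨⟨e, f⟩, hef, rfl⟩
      rw [mem_product] at hef
      have h1 : e * d * e ∈ Q := by
        rw [← hPQ d hdP]
        exact mem_image_of_mem _ hef.1
      rw [← hQP _ h1]
      exact mem_image_of_mem (fun e' => e' * (e * d * e) * e') hef.2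
    · intro hx
      have h1 : e0 * d * e0 ∈ Q := by
        rw [← hPQ d hdP]
        exact mem_image_of_mem (fun e' => e' * d * e') he0
      rw [← hQP _ h1, mem_image] at hx
      obtain ⟨f, hf, rfl⟩ := hx
      exact ⟨(e0, f), mem_product.2 ⟨he0, hf⟩, rfl⟩
  intro d hdN
  rw [hN, mem_union] at hdN
  rcases hdN with h1 | h1
  · rw [hN, step P₁ P₂ (fun d hd => (g1 d hd).1) (fun d hd => (g2 d hd).1) d h1, union_comm]
  · rw [hN, step P₂ P₁ (fun d hd => (g2 d hd).1) (fun d hd => (g1 d hd).1) d h1]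

theorem card_Nb (h : T8Data D) {E : Finset G} (hE : IsBase D E) {O O' : Finset G}
    (hO : O ∈ Oct D E) (hO' : O' ∈ Oct D E) (hd : Disjoint O O') {d' : G}
    (hd' : d' ∈ Del D E O') : (Nb D E O d').card = 16 := (Nb_aux h hE hO hO' hd hd').1

/-- **two members of `Δ_{O'}` with a common neighbour in `Δ_O` have the same neighbours.** -/
theorem Nb_eq (h : T8Data D) {E : Finset G} (hE : IsBase D E) {O O' : Finset G}
    (hO : O ∈ Oct D E) (hO' : O' ∈ Oct D E) (hd : Disjoint O O') {d' d'' d : G}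
    (hd' : d' ∈ Del D E O') (hd'' : d'' ∈ Del D E O') (h1 : d ∈ Nb D E O d')
    (h2 : d ∈ Nb D E O d'') : Nb D E O d' = Nb D E O d'' := by
  rw [(Nb_aux h hE hO hO' hd hd').2 d h1, (Nb_aux h hE hO hO' hd hd'').2 d h2]

/-- edges -/
structure Edge (D : Set G) (E : Finset G) (d b : G) : Prop where
  dD : d ∈ D
  bD : b ∈ D
  dE : d ∉ E
  bE : b ∉ E
  od : CP d E ∈ Oct D E
  ob : CP b E ∈ Oct D E
  disj : Disjoint (CP d E) (CP b E)
  comm : Commute d b

theorem Edge.symm {E : Finset G} {d b : G} (e : Edge D E d b) : Edge D E b d :=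
  ⟨e.bD, e.dD, e.bE, e.dE, e.ob, e.od, e.disj.symm, e.comm.symm⟩

/-- the component of an edge -/
def KK (D : Set G) (E : Finset G) (d b : G) : Finset G :=
  Nb D E (CP d E) b ∪ Nb D E (CP b E) d

theorem KK_symm (E : Finset G) (d b : G) : KK D E d b = KK D E b d := by
  rw [KK, KK, union_comm]

theorem mem_KK {E : Finset G} {d b a : G} : a ∈ KK D E d b ↔
    a ∈ D ∧ a ∉ E ∧ ((CP a E = CP d E ∧ Commute a b) ∨ (CP a E = CP b E ∧ Commute a d)) := by
  rw [KK, mem_union, mem_Nb, mem_Nb, mem_Del, mem_Del]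
  tauto

theorem Edge.ne (h : T8Data D) {E : Finset G} (hE : IsBase D E) {d b : G} (e : Edge D E d b) :
    CP d E ≠ CP b E := by
  intro h1
  have h2 := e.disj
  rw [h1, disjoint_self_iff_empty] at h2
  have := (h.steiner hE).card8 _ e.ob
  rw [h2, card_empty] at this
  omega

theorem Edge.left_mem {E : Finset G} {d b : G} (e : Edge D E d b) : d ∈ KK D E d b :=
  mem_KK.2 ⟨e.dD, e.dE, Or.inl ⟨rfl, e.comm⟩⟩

theorem Edge.right_mem {E : Finset G} {d b : G} (e : Edge D E d b) : b ∈ KK D E d b :=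
  mem_KK.2 ⟨e.bD, e.bE, Or.inr ⟨rfl, e.comm.symm⟩⟩

theorem KK_left (h : T8Data D) {E : Finset G} (hE : IsBase D E) {d b a : G} (e : Edge D E d b)
    (ha : a ∈ D) (haE : a ∉ E) (h1 : CP a E = CP d E) (h2 : Commute a b) :
    Edge D E a b ∧ KK D E a b = KK D E d b := by
  refine ⟨⟨ha, e.bD, haE, e.bE, h1 ▸ e.od, e.ob, h1 ▸ e.disj, h2⟩, ?_⟩
  rw [KK, KK, h1]
  congr 1
  refine Nb_eq h hE e.ob e.od e.disj.symm (d := b) (mem_Del.2 ⟨ha, haE, h1⟩)
    (mem_Del.2 ⟨e.dD, e.dE, rfl⟩) ?_ ?_
  · exact mem_Nb.2 ⟨mem_Del.2 ⟨e.bD, e.bE, rfl⟩, h2.symm⟩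
  · exact mem_Nb.2 ⟨mem_Del.2 ⟨e.bD, e.bE, rfl⟩, e.comm.symm⟩

theorem card_KK (h : T8Data D) {E : Finset G} (hE : IsBase D E) {d b : G} (e : Edge D E d b) :
    (KK D E d b).card = 32 := by
  rw [KK, card_union_of_disjoint, card_Nb h hE e.od e.ob e.disj (mem_Del.2 ⟨e.bD, e.bE, rfl⟩),
    card_Nb h hE e.ob e.od e.disj.symm (mem_Del.2 ⟨e.dD, e.dE, rfl⟩)]
  rw [disjoint_left]
  intro x hx hx'
  rw [mem_Nb, mem_Del] at hx hx'
  exact e.ne h hE (hx.1.2.2.symm.trans hx'.1.2.2)

/-- the components -/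
def Ks (D : Set G) (E : Finset G) : Finset (Finset G) :=
  univ.filter (fun K => ∃ d b, Edge D E d b ∧ K = KK D E d b)

theorem mem_Ks {E K : Finset G} : K ∈ Ks D E ↔ ∃ d b, Edge D E d b ∧ K = KK D E d b := by
  simp [Ks]

/-- a component through `d` is `KK d b` for some `b` -/
theorem exists_edge (h : T8Data D) {E : Finset G} (hE : IsBase D E) {K : Finset G} {d : G}
    (hK : K ∈ Ks D E) (hd : d ∈ K) : ∃ b, Edge D E d b ∧ K = KK D E d b := by
  obtain ⟨d₁, b₁, e, rfl⟩ := mem_Ks.1 hK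
  obtain ⟨h1, h2, h3 | h3⟩ := mem_KK.1 hd
  · obtain ⟨h4, h5⟩ := KK_left h hE e h1 h2 h3.1 h3.2
    exact ⟨b₁, h4, h5.symm⟩
  · obtain ⟨h4, h5⟩ := KK_left h hE e.symm h1 h2 h3.1 h3.2
    exact ⟨d₁, h4, by rw [h5, KK_symm]⟩

/-- components through `d` are determined by the other octad -/
theorem KK_right_eq (h : T8Data D) {E : Finset G} (hE : IsBase D E) {d b b' : G}
    (e : Edge D E d b) (e' : Edge D E d b') (hb : CP b E = CP b' E) :
    KK D E d b = KK D E d b' := by
  have := (KK_left h hE e'.symm e.bD e.bE hb e.comm.symm).2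
  rw [KK_symm, this, KK_symm]

/-- thirty components through each `d` in a `Δ_O` -/
theorem card_through (h : T8Data D) {E : Finset G} (hE : IsBase D E) {d : G} (hd : d ∈ D)
    (hdE : d ∉ E) (hO : CP d E ∈ Oct D E) : ((Ks D E).filter (fun K => d ∈ K)).card = 30 := by
  rw [← (h.steiner hE).card_disjoint hO]
  symm
  have hex : ∀ O' ∈ (Oct D E).filter (fun O' => Disjoint (CP d E) O'),
      ∃ b, Edge D E d b ∧ CP b E = O' := by
    intro O' hO'
    rw [mem_filter] at hO'
    have h1 := card_Nb h hE hO'.1 hO hO'.2.symm (d' := d) (mem_Del.2 ⟨hd, hdE, rfl⟩)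
    obtain ⟨b, hb⟩ : (Nb D E O' d).Nonempty := card_pos.1 (by omega)
    rw [mem_Nb, mem_Del] at hb
    refine ⟨b, ⟨hd, hb.1.1, hdE, hb.1.2.1, hO, ?_, ?_, hb.2.symm⟩, hb.1.2.2⟩
    · rw [hb.1.2.2]; exact hO'.1
    · rw [hb.1.2.2]; exact hO'.2
  choose f hf1 hf2 using hex
  refine card_bij (fun O' hO' => KK D E d (f O' hO')) ?_ ?_ ?_
  · intro O' hO'
    rw [mem_filter]
    exact ⟨mem_Ks.2 ⟨d, _, hf1 O' hO', rfl⟩, (hf1 O' hO').left_mem⟩
  · intro O' hO' O'' hO'' heq
    have h1 : f O' hO' ∈ KK D E d (f O'' hO'') := by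
      rw [← heq]
      exact (hf1 O' hO').right_mem
    obtain ⟨_, _, h2 | h2⟩ := mem_KK.1 h1
    · exfalso
      exact (hf1 O' hO').ne h hE h2.1.symm
    · rw [← hf2 O' hO', ← hf2 O'' hO'', h2.1]
  · intro K hK
    rw [mem_filter] at hK
    obtain ⟨b, hb, rfl⟩ := exists_edge h hE hK.1 hK.2
    have h1 : CP b E ∈ (Oct D E).filter (fun O' => Disjoint (CP d E) O') :=
      mem_filter.2 ⟨hb.ob, hb.disj⟩
    exact ⟨CP b E, h1, KK_right_eq h hE (hf1 _ h1) hb (hf2 _ h1)⟩

/-- **There are 22770 components for each base.** -/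
theorem card_Ks (h : T8Data D) {E : Finset G} (hE : IsBase D E) : (Ks D E).card = 22770 := by
  have hst := h.steiner hE
  set T := univ.filter (fun d => d ∈ D ∧ d ∉ E ∧ CP d E ∈ Oct D E) with hT
  have h1 : T.card = 759 * 32 := by
    have h2 := card_eq_sum_card_fiberwise (s := T) (t := Oct D E) (f := fun d => CP d E)
      (fun d hd => by
        have : d ∈ T := by exact_mod_cast hd
        rw [hT, mem_filter] at this
        exact_mod_cast this.2.2.2)
    rw [h2, sum_congr rfl (g := fun _ => 32), sum_const, smul_eq_mul, hst.card_blocks]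
    intro O hO
    rw [← h.card_Del hE hO]
    congr 1
    ext d
    rw [mem_filter, hT, mem_filter, mem_Del]
    constructor
    · rintro ⟨⟨_, h3, h4, _⟩, h5⟩
      exact ⟨h3, h4, h5⟩
    · rintro ⟨h3, h4, h5⟩
      exact ⟨⟨mem_univ _, h3, h4, h5 ▸ hO⟩, h5⟩
  have h3 : (Ks D E).card * 32 = T.card * 30 := by
    refine card_mul_eq_card_mul (fun K d => d ∈ K) ?_ ?_
    · intro K hK
      have h4 : bipartiteAbove (fun (K : Finset G) (d : G) => d ∈ K) T K = K := by
        ext a
        rw [bipartiteAbove, mem_filter]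
        constructor
        · exact fun h => h.2
        · intro ha
          refine ⟨?_, ha⟩
          obtain ⟨b, hb, _⟩ := exists_edge h hE hK ha
          rw [hT, mem_filter]
          exact ⟨mem_univ _, hb.dD, hb.dE, hb.od⟩
      rw [h4]
      obtain ⟨d, b, hb, rfl⟩ := mem_Ks.1 hK
      exact card_KK h hE hb
    · intro d hd
      rw [hT, mem_filter] at hd
      exact card_through h hE hd.2.1 hd.2.2.1 hd.2.2.2
  rw [h1] at h3
  omega

end

end Cfsg.Agent.Fischer545.Comb
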