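import Mathlib

set_option autoImplicit false

/-!
# Odd involutions
-/

namespace Cfsg.Agent.Fischer545.Sign

open Equiv Equiv.Perm

theorem four_dvd_of_sign {X : Type*} [Fintype X] [DecidableEq X] (σ : Perm X) (h2 : σ ^ 2 = 1)
    (hs : Perm.sign σ = 1) : 4 ∣ σ.support.card := by
  have h1 : ∀ c ∈ σ.cycleType, c = 2 := by
    have : Fact (Nat.Prime 2) := ⟨Nat.prime_two⟩
    exact (pow_prime_eq_one_iff (p := 2)).1 h2
  obtain ⟨k, hk⟩ : ∃ k, σ.cycleType = Multiset.replicate k 2 :=
    ⟨_, Multiset.eq_replicate_card.2 h1⟩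
  have h3 : σ.support.card = 2 * k := by
    rw [← sum_cycleType, hk, Multiset.sum_replicate, smul_eq_mul, mul_comm]
  have h4 := sign_of_cycleType σ
  rw [hs, hk, Multiset.sum_replicate, Multiset.card_replicate, smul_eq_mul] at h4
  have h5 : Even k := by
    by_contra hodd
    rw [Nat.not_even_iff_odd] at hodd
    have : Odd (k * 2 + k) := by
      obtain ⟨m, rfl⟩ := hodd
      exact ⟨3 * m + 1, by ring⟩
    rw [this.neg_one_pow] at h4
    exact absurd h4 (by decide)
  obtain ⟨m, rfl⟩ := h5
  rw [h3]
  exact ⟨m, by ring⟩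

/-- If a group acts on a finite set and an involution has a number of moved points not divisible
by 4, then the group is not perfect. -/
theorem commutator_ne_top {G : Type*} [Group G] {X : Type*} [Fintype X] [DecidableEq X]
    [MulAction G X] (x : G) (hx : x * x = 1)
    (hodd : ¬ 4 ∣ (Finset.univ.filter (fun p : X => x • p ≠ p)).card) : commutator G ≠ ⊤ := by
  intro htop
  apply hodd
  have h1 : commutator G ≤ ((Perm.sign (α := X)).comp (MulAction.toPermHom G X)).ker :=
    Abelianization.commutator_subset_ker _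
  rw [htop] at h1
  have h2 : Perm.sign (MulAction.toPermHom G X x) = 1 := h1 (Subgroup.mem_top x)
  have h3 := four_dvd_of_sign (MulAction.toPermHom G X x)
    (by rw [← map_pow, sq, hx, map_one]) h2
  convert h3 using 2
  ext p
  rw [Finset.mem_filter, Perm.mem_support]
  simp

end Cfsg.Agent.Fischer545.Sign
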