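import Mathlib
import Cfsg.Agent.Fischer545.Comp
import Cfsg.Agent.Fischer545.Sign
import Cfsg.Agent.SporadicStructure.ThreeTransSylow

set_option autoImplicit false

/-!
# The `G`-set of components, and the odd permutation
-/

namespace Cfsg.Agent.Fischer545.Comb

open Finset Cfsg Cfsg.Agent.SporadicStructure.FischerSpace Cfsg.Agent.Fischer545.Steiner
open scoped Classical

noncomputable section

section Conj

variable {G : Type*} [Group G]

/-- conjugate of a finite set -/
def cjs (g : G) (S : Finset G) : Finset G := S.map (MulAut.conj g).toEquiv.toEmbedding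

theorem mem_cjs {g x : G} {S : Finset G} : x ∈ cjs g S ↔ g⁻¹ * x * g ∈ S := by
  rw [cjs, mem_map_equiv]
  simp [MulAut.conj_symm_apply]

theorem conj_mem_cjs {g x : G} {S : Finset G} : g * x * g⁻¹ ∈ cjs g S ↔ x ∈ S := by
  rw [mem_cjs]
  have : g⁻¹ * (g * x * g⁻¹) * g = x := by group
  rw [this]

theorem cjs_mul (g k : G) (S : Finset G) : cjs (g * k) S = cjs g (cjs k S) := by
  ext x
  rw [mem_cjs, mem_cjs, mem_cjs]
  have : (g * k)⁻¹ * x * (g * k) = k⁻¹ * (g⁻¹ * x * g) * k := by group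
  rw [this]

theorem cjs_one (S : Finset G) : cjs 1 S = S := by
  ext x
  rw [mem_cjs]
  simp

theorem card_cjs (g : G) (S : Finset G) : (cjs g S).card = S.card := card_map _

theorem cjs_subset {g : G} {S T : Finset G} : cjs g S ⊆ cjs g T ↔ S ⊆ T := map_subset_map

theorem cjs_inj {g : G} {S T : Finset G} (h : cjs g S = cjs g T) : S = T := by
  have := congrArg (cjs g⁻¹) h
  rwa [← cjs_mul, ← cjs_mul, inv_mul_cancel, cjs_one, cjs_one] at this

theorem commute_conj (g a b : G) : Commute (g * a * g⁻¹) (g * b * g⁻¹) ↔ Commute a b :=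
  FData.commute_conj_gen g a b

theorem CP_cjs (g d : G) (E : Finset G) : CP (g * d * g⁻¹) (cjs g E) = cjs g (CP d E) := by
  ext x
  obtain ⟨y, rfl⟩ : ∃ y, x = g * y * g⁻¹ := ⟨g⁻¹ * x * g, by group⟩
  rw [mem_CP, conj_mem_cjs, conj_mem_cjs, mem_CP, commute_conj]

variable {D : Set G}

theorem IsBase.cjs (h : ∀ g : G, ∀ x ∈ D, g * x * g⁻¹ ∈ D) {E : Finset G} (hE : IsBase D E)
    (g : G) : IsBase D (Comb.cjs g E) where
  sub := by
    intro a ha
    rw [mem_cjs] at ha
    have := h g _ (hE.sub _ ha)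
    have e : g * (g⁻¹ * a * g) * g⁻¹ = a := by group
    rwa [e] at this
  comm := by
    intro a ha b hb
    rw [mem_cjs] at ha hb
    have := (commute_conj g _ _).2 (hE.comm _ ha _ hb)
    have e : ∀ x : G, g * (g⁻¹ * x * g) * g⁻¹ = x := by intro x; group
    rwa [e, e] at this
  max := by
    intro x hx hc
    rw [mem_cjs]
    apply hE.max
    · have := h g⁻¹ x hx
      simpa using this
    · intro a ha
      have h1 := hc _ (conj_mem_cjs.2 ha)
      rw [← commute_conj g]
      have e : g * (g⁻¹ * x * g) * g⁻¹ = x := by group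
      rwa [e]

variable [Fintype G]

theorem cl_cjs (h : ∀ g : G, ∀ x ∈ D, g * x * g⁻¹ ∈ D) (g : G) (S : Finset G) :
    cl D (cjs g S) = cjs g (cl D S) := by
  have e : ∀ x : G, g * (g⁻¹ * x * g) * g⁻¹ = x := by intro x; group
  have hD : ∀ x, g * x * g⁻¹ ∈ D ↔ x ∈ D := by
    intro x
    constructor
    · intro hx
      have := h g⁻¹ _ hx
      have e' : g⁻¹ * (g * x * g⁻¹) * g⁻¹⁻¹ = x := by group
      rwa [e'] at this
    · exact h g x
  ext x
  obtain ⟨y, rfl⟩ : ∃ y, x = g * y * g⁻¹ := ⟨g⁻¹ * x * g, (e x).symm⟩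
  rw [mem_cl, conj_mem_cjs, mem_cl, hD]
  refine and_congr_right fun _ => ?_
  constructor
  · intro hx d hd hdS
    rw [← commute_conj g]
    refine hx _ ((hD d).2 hd) ?_
    intro s hs
    rw [mem_cjs] at hs
    have := (commute_conj g _ _).2 (hdS _ hs)
    rwa [e] at this
  · intro hx d hd hdS
    obtain ⟨d', rfl⟩ : ∃ y, d = g * y * g⁻¹ := ⟨g⁻¹ * d * g, (e d).symm⟩
    rw [commute_conj g]
    refine hx _ ((hD d').1 hd) ?_
    intro s hs
    rw [← commute_conj g]
    exact hdS _ (conj_mem_cjs.2 hs)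

theorem cjs_mem_Oct (h : ∀ g : G, ∀ x ∈ D, g * x * g⁻¹ ∈ D) (g : G) {E O : Finset G}
    (hO : O ∈ Oct D E) : cjs g O ∈ Oct D (cjs g E) := by
  obtain ⟨S, hS, h5, rfl⟩ := mem_Oct.1 hO
  refine mem_Oct.2 ⟨cjs g S, cjs_subset.2 hS, by rw [card_cjs, h5], cl_cjs h g S⟩

theorem Edge.cjs (h : ∀ g : G, ∀ x ∈ D, g * x * g⁻¹ ∈ D) (g : G) {E : Finset G} {d b : G}
    (e : Edge D E d b) : Edge D (Comb.cjs g E) (g * d * g⁻¹) (g * b * g⁻¹) where
  dD := h g d e.dD
  bD := h g b e.bD
  dE := by rw [conj_mem_cjs]; exact e.dE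
  bE := by rw [conj_mem_cjs]; exact e.bE
  od := by rw [CP_cjs]; exact cjs_mem_Oct h g e.od
  ob := by rw [CP_cjs]; exact cjs_mem_Oct h g e.ob
  disj := by
    rw [CP_cjs, CP_cjs, Comb.cjs, Comb.cjs, disjoint_map]
    exact e.disj
  comm := (commute_conj g _ _).2 e.comm

theorem KK_cjs (h : ∀ g : G, ∀ x ∈ D, g * x * g⁻¹ ∈ D) (g : G) (E : Finset G) (d b : G) :
    KK D (cjs g E) (g * d * g⁻¹) (g * b * g⁻¹) = cjs g (KK D E d b) := by
  have hD : ∀ x, g * x * g⁻¹ ∈ D ↔ x ∈ D := by
    intro x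
    constructor
    · intro hx
      have := h g⁻¹ _ hx
      have e' : g⁻¹ * (g * x * g⁻¹) * g⁻¹⁻¹ = x := by group
      rwa [e'] at this
    · exact h g x
  ext x
  obtain ⟨y, rfl⟩ : ∃ y, x = g * y * g⁻¹ := ⟨g⁻¹ * x * g, by group⟩
  rw [conj_mem_cjs, mem_KK, mem_KK, hD, conj_mem_cjs, commute_conj, commute_conj, CP_cjs, CP_cjs,
    CP_cjs]
  have hi : ∀ S T : Finset G, cjs g S = cjs g T ↔ S = T :=
    fun S T => ⟨cjs_inj, fun h => by rw [h]⟩
  rw [hi, hi]

theorem cjs_mem_Ks (h : ∀ g : G, ∀ x ∈ D, g * x * g⁻¹ ∈ D) (g : G) {E K : Finset G}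
    (hK : K ∈ Ks D E) : cjs g K ∈ Ks D (cjs g E) := by
  obtain ⟨d, b, e, rfl⟩ := mem_Ks.1 hK
  exact mem_Ks.2 ⟨_, _, e.cjs h g, (KK_cjs h g E d b).symm⟩

end Conj

section Fix

variable {G : Type*} [Group G] {D : Set G}

theorem cjs_eq_self_of_comm {e : G} {S : Finset G} (h : ∀ s ∈ S, Commute e s) : cjs e S = S := by
  ext x
  rw [mem_cjs]
  constructor
  · intro hx
    have h1 := (h _ hx).eq
    have h2 : x = e⁻¹ * x * e := by
      have h3 : e * (e⁻¹ * x * e) * e⁻¹ = x := by group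
      have h4 : e * (e⁻¹ * x * e) * e⁻¹ = e⁻¹ * x * e := by
        rw [h1]; group
      rw [← h4, h3]
    rw [h2]; exact hx
  · intro hx
    have h1 := (h x hx).eq
    have : e⁻¹ * x * e = x := by rw [mul_assoc, ← h1]; group
    rw [this]; exact hx

/-- a member of `D` normalising a base belongs to it -/
theorem mem_of_cjs_eq (h : FData D) {E : Finset G} (hE : IsBase D E) {x : G} (hx : x ∈ D)
    (hxE : cjs x E = E) : x ∈ E := by
  refine hE.max x hx fun e he => ?_
  by_contra hc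
  have h1 : x * e * x ∈ E := by
    rw [← hxE, mem_cjs, h.inv_eq hx, h.conj_conj hx]
    exact he
  exact not_commute_conj h (hE.sub e he) hx hc (hE.comm e he _ h1)

theorem cjs_base {E : Finset G} (hE : IsBase D E) {e : G} (he : e ∈ E) : cjs e E = E :=
  cjs_eq_self_of_comm fun s hs => hE.comm e he s hs

variable [Fintype G]

/-- `e ∈ O` fixes the component -/
theorem cjs_KK_left (h : T8Data D) {E : Finset G} (hE : IsBase D E) {d b e : G}
    (hdb : Edge D E d b) (he : e ∈ CP d E) : cjs e (KK D E d b) = KK D E d b := by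
  have he' := mem_CP.1 he
  have heD := hE.sub e he'.1
  have hcomm : e * d * e⁻¹ = d := by
    rw [← he'.2.eq, mul_inv_cancel_right]
  have h1 := KK_cjs h.fd.conj e E d b
  have h2 := hdb.cjs h.fd.conj e
  rw [cjs_base hE he'.1, hcomm] at h1 h2
  rw [← h1]
  have hb : CP (e * b * e⁻¹) E = CP b E := by
    have h3 := CP_cjs e b E
    rw [cjs_base hE he'.1] at h3
    rw [h3]
    refine cjs_eq_self_of_comm fun s hs => ?_
    exact hE.comm e he'.1 s (mem_CP.1 hs).1
  exact KK_right_eq h hE h2 hdb hb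

theorem cjs_KK_right (h : T8Data D) {E : Finset G} (hE : IsBase D E) {d b e : G}
    (hdb : Edge D E d b) (he : e ∈ CP b E) : cjs e (KK D E d b) = KK D E d b := by
  rw [KK_symm]
  exact cjs_KK_left h hE hdb.symm he

/-- `e ∉ O ∪ O'` moves the component -/
theorem mem_of_cjs_KK (h : T8Data D) {E : Finset G} (hE : IsBase D E) {d b e : G}
    (hdb : Edge D E d b) (he : e ∈ E) (hK : cjs e (KK D E d b) = KK D E d b) :
    e ∈ CP d E ∪ CP b E := by
  by_contra hnot
  rw [mem_union, not_or, mem_CP, mem_CP, not_and, not_and] at hnot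
  have hd : ¬ Commute e d := fun hc => hnot.1 he hc.symm
  have hb : ¬ Commute e b := fun hc => hnot.2 he hc.symm
  have heD := hE.sub e he
  have h1 : e * d * e ∈ KK D E d b := by
    rw [← hK, mem_cjs, h.fd.inv_eq heD, h.fd.conj_conj heD]
    exact hdb.left_mem
  obtain ⟨h2, h3, h4 | h4⟩ := mem_KK.1 h1
  · -- `b` commutes with `d` and with `e * d * e`, hence with `e`
    apply hb
    have h5 : Commute (e * d * e * d * (e * d * e)) b :=
      (h4.2.mul_left hdb.comm).mul_left h4.2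
    have h6 := h.fd.third_conj heD hdb.dD hd
    -- conjugation of `d` by `e * d * e` is `e`
    have h7 : e * d * e * d * (e * d * e) = e := by
      have h8 := h.fd.third_conj hdb.dD heD (fun hc => hd hc.symm)
      rw [← h.fd.braid e heD d hdb.dD hd] at h8
      exact h8
    rwa [h7] at h5
  · have h5 : CP (e * d * e) E = CP d E := by
      have := conj_mem_Del h.fd hE (O := CP d E) (mem_Del.2 ⟨hdb.dD, hdb.dE, rfl⟩) he
      exact (mem_Del.1 this).2.2
    exact hdb.ne h hE (h5.symm.trans h4.1)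

theorem card_fixers (h : T8Data D) {E K : Finset G} (hE : IsBase D E) (hK : K ∈ Ks D E) :
    (E.filter (fun e => cjs e K = K)).card = 16 := by
  have hst := h.steiner hE
  obtain ⟨d, b, hdb, rfl⟩ := mem_Ks.1 hK
  have h1 : E.filter (fun e => cjs e (KK D E d b) = KK D E d b) = CP d E ∪ CP b E := by
    ext e
    rw [mem_filter]
    constructor
    · rintro ⟨h1, h2⟩
      exact mem_of_cjs_KK h hE hdb h1 h2
    · intro h1
      rw [mem_union] at h1
      rcases h1 with h1 | h1
      · exact ⟨(mem_CP.1 h1).1, cjs_KK_left h hE hdb h1⟩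
      · exact ⟨(mem_CP.1 h1).1, cjs_KK_right h hE hdb h1⟩
  rw [h1, card_union_of_disjoint hdb.disj, hst.card8 _ hdb.od, hst.card8 _ hdb.ob]

/-- the set of bases -/
def Om (D : Set G) : Finset (Finset G) := univ.filter (fun E => IsBase D E)

theorem mem_Om {E : Finset G} : E ∈ Om D ↔ IsBase D E := by simp [Om]

theorem exists_base : ∃ E, IsBase D E := by
  let P : Finset (Finset G) :=
    univ.filter (fun E => (∀ a ∈ E, a ∈ D) ∧ ∀ a ∈ E, ∀ b ∈ E, Commute a b)
  have hne : P.Nonempty := ⟨∅, by simp [P]⟩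
  obtain ⟨E, hE, hmax⟩ := P.exists_max_image (fun E => E.card) hne
  have hE' : (∀ a ∈ E, a ∈ D) ∧ ∀ a ∈ E, ∀ b ∈ E, Commute a b := by
    simpa [P] using hE
  refine ⟨E, hE'.1, hE'.2, ?_⟩
  intro g hg hc
  by_contra hgE
  have h1 : insert g E ∈ P := by
    simp only [P, mem_filter, mem_univ, true_and, mem_insert]
    constructor
    · rintro a (rfl | ha)
      · exact hg
      · exact hE'.1 a ha
    · rintro a (rfl | ha) b (rfl | hb)
      · exact Commute.refl _
      · exact hc b hb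
      · exact (hc a ha).symm
      · exact hE'.2 a ha b hb
  have h2 := hmax _ h1
  rw [card_insert_of_notMem hgE] at h2
  omega

omit [Fintype G] in
theorem closure_base_pgroup (h : FData D) {E : Finset G} (hE : IsBase D E) :
    IsPGroup 2 (Subgroup.closure (E : Set G)) :=
  SporadicStructure.ThreeTransSylow.isPGroup_closure
    (fun e he => h.sq e (hE.sub e (by exact_mod_cast he)))
    (fun a ha b hb => hE.comm a (by exact_mod_cast ha) b (by exact_mod_cast hb))

omit [Fintype G] in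
/-- two members of `D` in a 2-group commute -/
theorem commute_of_two_group (h : FData D) {T : Subgroup G} (hT : IsPGroup 2 T) {a b : G}
    (ha : a ∈ D) (hb : b ∈ D) (haT : a ∈ T) (hbT : b ∈ T) : Commute a b := by
  by_contra hc
  have hbr := h.braid a ha b hb hc
  have h3 : (a * b) ^ 3 = 1 := by
    calc (a * b) ^ 3 = (a * b * a) * (b * a * b) := by
          rw [pow_succ, pow_two]; simp only [mul_assoc]
      _ = (b * a * b) * (b * a * b) := by rw [hbr]
      _ = b * a * (b * b) * a * b := by simp only [mul_assoc]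
      _ = 1 := by rw [h.sq b hb, mul_one, mul_assoc b, h.sq a ha, mul_one, h.sq b hb]
  obtain ⟨k, hk⟩ := hT ⟨a * b, mul_mem haT hbT⟩
  have hk' : (a * b) ^ 2 ^ k = 1 := congrArg Subtype.val hk
  have h4 : orderOf (a * b) ∣ 3 := orderOf_dvd_of_pow_eq_one h3
  have h5 : orderOf (a * b) ∣ 2 ^ k := orderOf_dvd_of_pow_eq_one hk'
  have h6 : Nat.Coprime 3 (2 ^ k) := Nat.Coprime.pow_right k (by norm_num)
  have h7 : orderOf (a * b) = 1 := Nat.eq_one_of_dvd_coprimes h6 h4 h5
  rw [orderOf_eq_one_iff] at h7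
  apply hc
  have : b = a := by
    have h8 : a * (a * b) = a := by rw [h7, mul_one]
    rwa [← mul_assoc, h.sq a ha, one_mul] at h8
  rw [this]

/-- a base in a 2-group is its intersection with `D` -/
theorem base_eq (h : FData D) {E : Finset G} (hE : IsBase D E) {T : Subgroup G}
    (hT : IsPGroup 2 T) (hET : ∀ e ∈ E, e ∈ T) : E = univ.filter (fun g => g ∈ D ∧ g ∈ T) := by
  ext g
  rw [mem_filter]
  constructor
  · intro hg
    exact ⟨mem_univ _, hE.sub g hg, hET g hg⟩
  · rintro ⟨-, h1, h2⟩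
    exact hE.max g h1 fun e he => commute_of_two_group h hT h1 (hE.sub e he) h2 (hET e he)

end Fix

end

end Cfsg.Agent.Fischer545.Comb
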