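import Mathlib
import Cfsg.Agent.Fischer545.Fix

set_option autoImplicit false

/-!
# The parity argument
-/

namespace Cfsg.Agent.Fischer545.Comb

open Finset Cfsg Cfsg.Agent.SporadicStructure.FischerSpace Cfsg.Agent.Fischer545.Steiner
open scoped Classical

noncomputable section

variable {G : Type*} [Group G] {D : Set G}

/-- `G` acts on the set of bases -/
@[instance_reducible] def actOm (h : FData D) : MulAction G {E : Finset G // IsBase D E} where
  smul g E := ⟨cjs g E.1, E.2.cjs h.conj g⟩
  one_smul E := Subtype.ext (cjs_one E.1)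
  mul_smul g k E := Subtype.ext (cjs_mul g k E.1)

variable [Fintype G]

/-- **the number of bases is odd.** -/
theorem odd_Om (h : FData D) : (Om D).card % 2 = 1 := by
  have : Fact (Nat.Prime 2) := ⟨Nat.prime_two⟩
  obtain ⟨E₁, hE₁⟩ := exists_base (D := D)
  obtain ⟨P, hP⟩ := (closure_base_pgroup h hE₁).exists_le_sylow
  have hEP : ∀ e ∈ E₁, e ∈ (P : Subgroup G) := fun e he =>
    hP (Subgroup.subset_closure (by exact_mod_cast he))
  have hE₁' := base_eq h hE₁ P.isPGroup' hEP
  let _ := actOm h
  have hcard := P.isPGroup'.card_modEq_card_fixedPoints {E : Finset G // IsBase D E}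
  have hfix : MulAction.fixedPoints (P : Subgroup G) {E : Finset G // IsBase D E} =
      {⟨E₁, hE₁⟩} := by
    ext E
    rw [MulAction.mem_fixedPoints, Set.mem_singleton_iff]
    constructor
    · intro hE
      have hE' : ∀ p ∈ (P : Subgroup G), cjs p E.1 = E.1 := fun p hp =>
        congrArg Subtype.val (hE ⟨p, hp⟩)
      have h1 : (P : Subgroup G) ≤
          Subgroup.normalizer ((Subgroup.closure (E.1 : Set G) : Subgroup G) : Set G) := by
        intro p hp
        have h2 : ∀ q ∈ (P : Subgroup G), ∀ x ∈ Subgroup.closure (E.1 : Set G),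
            q * x * q⁻¹ ∈ Subgroup.closure (E.1 : Set G) := by
          intro q hq x hx
          have h3 : Subgroup.closure (E.1 : Set G) ≤
              (Subgroup.closure (E.1 : Set G)).comap (MulAut.conj q).toMonoidHom := by
            rw [Subgroup.closure_le]
            intro e he
            rw [SetLike.mem_coe, Subgroup.mem_comap]
            apply Subgroup.subset_closure
            have he' : e ∈ E.1 := by exact_mod_cast he
            have h4 : q * e * q⁻¹ ∈ cjs q E.1 := conj_mem_cjs.2 he'
            rw [hE' q hq] at h4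
            exact_mod_cast h4
          exact h3 hx
        rw [Subgroup.mem_normalizer_iff]
        intro x
        constructor
        · exact h2 p hp x
        · intro hx
          have h3 := h2 p⁻¹ (inv_mem hp) _ hx
          have h4 : p⁻¹ * (p * x * p⁻¹) * p⁻¹⁻¹ = x := by group
          rwa [h4] at h3
      have h2 : IsPGroup 2 ((P : Subgroup G) ⊔ Subgroup.closure (E.1 : Set G) : Subgroup G) :=
        IsPGroup.to_sup_of_normal_right' P.isPGroup' (closure_base_pgroup h E.2) h1
      have h3 := P.is_maximal' h2 le_sup_left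
      have h4 : ∀ e ∈ E.1, e ∈ (P : Subgroup G) := by
        intro e he
        rw [← h3]
        exact Subgroup.mem_sup_right (Subgroup.subset_closure (by exact_mod_cast he))
      apply Subtype.ext
      show E.1 = E₁
      rw [base_eq h E.2 P.isPGroup' h4, ← hE₁']
    · rintro rfl p
      apply Subtype.ext
      show cjs (p : G) E₁ = E₁
      ext x
      rw [mem_cjs, hE₁', mem_filter, mem_filter]
      have hp := p.2
      constructor
      · rintro ⟨-, h1, h2⟩
        refine ⟨mem_univ _, ?_, ?_⟩
        · have := h.conj p _ h1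
          have e : (p : G) * ((p : G)⁻¹ * x * p) * (p : G)⁻¹ = x := by group
          rwa [e] at this
        · have := mul_mem (mul_mem hp h2) (inv_mem hp)
          have e : (p : G) * ((p : G)⁻¹ * x * p) * (p : G)⁻¹ = x := by group
          rwa [e] at this
      · rintro ⟨-, h1, h2⟩
        refine ⟨mem_univ _, ?_, mul_mem (mul_mem (inv_mem hp) h2) hp⟩
        have := h.conj (p : G)⁻¹ _ h1
        simpa using this
  have h1 : Nat.card {E : Finset G // IsBase D E} = (Om D).card := by
    rw [Nat.card_eq_fintype_card, Fintype.card_subtype]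
    rfl
  rw [h1, hfix] at hcard
  simp only [Nat.card_eq_fintype_card] at hcard
  have h2 : (Om D).card % 2 = 1 % 2 := by
    simpa [Nat.ModEq] using hcard
  omega

/-- the `G`-set of components -/
def Xi (D : Set G) : Type _ := {p : Finset G × Finset G // IsBase D p.1 ∧ p.2 ∈ Ks D p.1}

instance : Fintype (Xi D) := by unfold Xi; infer_instance

instance : DecidableEq (Xi D) := Classical.decEq _

/-- `G` acts on the set of components -/
@[instance_reducible] def actXi (h : FData D) : MulAction G (Xi D) where
  smul g p := ⟨(cjs g p.1.1, cjs g p.1.2), p.2.1.cjs h.conj g, cjs_mem_Ks h.conj g p.2.2⟩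
  one_smul _ := Subtype.ext (Prod.ext (cjs_one _) (cjs_one _))
  mul_smul g k _ := Subtype.ext (Prod.ext (cjs_mul g k _) (cjs_mul g k _))

theorem card_Xi (h : T8Data D) : Fintype.card (Xi D) = (Om D).card * 22770 := by
  have h1 : Fintype.card (Xi D) =
      (univ.filter (fun p : Finset G × Finset G => IsBase D p.1 ∧ p.2 ∈ Ks D p.1)).card := by
    rw [← Fintype.card_subtype]
    rfl
  rw [h1]
  have h2 : univ.filter (fun p : Finset G × Finset G => IsBase D p.1 ∧ p.2 ∈ Ks D p.1) =
      ((Om D).sigma (fun E => Ks D E)).map (Equiv.sigmaEquivProd _ _).toEmbedding := by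
    ext ⟨E, K⟩
    rw [mem_filter, mem_map_equiv, mem_sigma, mem_Om]
    simp
  rw [h2, card_map, card_sigma, sum_congr rfl (g := fun _ => 22770), sum_const, smul_eq_mul]
  intro E hE
  exact card_Ks h (mem_Om.1 hE)

/-- the set of fixed points -/
def fixSet (D : Set G) (x : G) : Finset (Xi D) :=
  univ.filter (fun p => cjs x p.1.1 = p.1.1 ∧ cjs x p.1.2 = p.1.2)

theorem mem_fixSet {x : G} {p : Xi D} :
    p ∈ fixSet D x ↔ cjs x p.1.1 = p.1.1 ∧ cjs x p.1.2 = p.1.2 := by simp [fixSet]

theorem card_fixSet_conj (h : FData D) (g x : G) :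
    (fixSet D (g * x * g⁻¹)).card = (fixSet D x).card := by
  let _ := actXi h
  symm
  refine card_bij (fun p _ => g • p) ?_ ?_ ?_
  · intro p hp
    rw [mem_fixSet] at hp ⊢
    have key : ∀ S : Finset G, cjs x S = S → cjs (g * x * g⁻¹) (cjs g S) = cjs g S := by
      intro S hS
      rw [← cjs_mul, inv_mul_cancel_right, cjs_mul, hS]
    exact ⟨key _ hp.1, key _ hp.2⟩
  · intro p _ q _ hpq
    exact MulAction.injective g hpq
  · intro p hp
    refine ⟨g⁻¹ • p, ?_, smul_inv_smul g p⟩
    rw [mem_fixSet] at hp ⊢
    have key : ∀ S : Finset G, cjs (g * x * g⁻¹) S = S → cjs x (cjs g⁻¹ S) = cjs g⁻¹ S := by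
      intro S hS
      have := congrArg (cjs g⁻¹) hS
      rw [← cjs_mul] at this ⊢
      have e : g⁻¹ * (g * x * g⁻¹) = x * g⁻¹ := by group
      rwa [e] at this
    exact ⟨key _ hp.1, key _ hp.2⟩

theorem fix_count (h : T8Data D) {x : G} (hx : x ∈ D) :
    306936 * (fixSet D x).card = Fintype.card (Xi D) * 16 := by
  have hDc := h.card
  have h1 : (univ.filter (fun d => d ∈ D)).card * (fixSet D x).card =
      (univ : Finset (Xi D)).card * 16 := by
    refine card_mul_eq_card_mul (fun d p => cjs d p.1.1 = p.1.1 ∧ cjs d p.1.2 = p.1.2) ?_ ?_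
    · intro d hd
      rw [mem_filter] at hd
      obtain ⟨g, rfl⟩ := h.fd.single x hx d hd.2
      rw [← card_fixSet_conj h.fd g x]
      rfl
    · intro p _
      rw [← card_fixers h p.2.1 p.2.2]
      congr 1
      ext d
      rw [bipartiteBelow, mem_filter, mem_filter, mem_filter]
      constructor
      · rintro ⟨⟨-, h2⟩, h3, h4⟩
        exact ⟨mem_of_cjs_eq h.fd p.2.1 h2 h3, h4⟩
      · rintro ⟨h2, h3⟩
        exact ⟨⟨mem_univ _, p.2.1.sub d h2⟩, cjs_base p.2.1 h2, h3⟩
  rw [hDc] at h1
  exact h1

theorem arith_aux {m f X w : ℕ} (h1 : m + f = X) (h2 : 306936 * f = X * 16) (h3 : X = w * 22770)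
    (h4 : w % 2 = 1) (h5 : 4 ∣ m) : False := by
  subst h3
  obtain ⟨k, rfl⟩ := h5
  omega

theorem moved_add_fixed (h : FData D) (x : G) :
    (univ.filter (fun p : Xi D => (actXi h).toSMul.smul x p ≠ p)).card + (fixSet D x).card =
      Fintype.card (Xi D) := by
  have h0 : fixSet D x = univ.filter (fun p : Xi D => ¬ ((actXi h).toSMul.smul x p ≠ p)) := by
    ext p
    rw [mem_fixSet, mem_filter, not_not]
    constructor
    · rintro ⟨h2, h3⟩
      exact ⟨mem_univ _, Subtype.ext (Prod.ext h2 h3)⟩
    · rintro ⟨-, h2⟩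
      have h3 := congrArg Subtype.val h2
      exact ⟨congrArg Prod.fst h3, congrArg Prod.snd h3⟩
  rw [h0, card_filter_add_card_filter_not, card_univ]

/-- **A group with a class of 3-transpositions with the local data of `Fi24` is not perfect.** -/
theorem T8Data.commutator_ne_top (h : T8Data D) : commutator G ≠ ⊤ := by
  obtain ⟨x, hx⟩ := h.fd.nonempty
  have h1 := moved_add_fixed h.fd x
  have h2 := fix_count h hx
  have h3 := card_Xi h
  have h4 := odd_Om h.fd
  refine @Sign.commutator_ne_top G _ (Xi D) _ _ (actXi h.fd) x (h.fd.sq x hx) ?_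
  intro hdvd
  exact arith_aux h1 h2 h3 h4 hdvd

end

end Cfsg.Agent.Fischer545.Comb
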