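import Mathlib
import Cfsg.Agent.Fischer545.Comb
import Cfsg.Agent.Fischer545.Herm6

set_option autoImplicit false

/-!
# Maximal commuting sets in the space of isotropic points of the Hermitian space of dimension 6
-/

namespace Cfsg.Agent.Fischer545.Uni

open Cfsg Cfsg.Agent.LieClassical.HermBasic Cfsg.Agent.ClassicalGeometry.HermFrame Module
open Cfsg.Agent.Fischer545.Comb Cfsg.Agent.Fischer545.Herm6
open scoped Classical

noncomputable section

variable {F : Type*} [Field F] [Fintype F] {G : Type*} [Group G]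

/-- `f` identifies `P` with the isotropic points -/
structure UData (P : Set G) (f : G → Fin 6 → F) : Prop where
  ne : ∀ x ∈ P, f x ≠ 0
  iso : ∀ x ∈ P, hermForm 6 F 2 (f x) (f x) = 0
  comm : ∀ x ∈ P, ∀ y ∈ P, (Commute x y ↔ hermForm 6 F 2 (f x) (f y) = 0)
  inj : ∀ x ∈ P, ∀ y ∈ P, ∀ c : F, f x = c • f y → x = y
  surj : ∀ v : Fin 6 → F, v ≠ 0 → hermForm 6 F 2 v v = 0 → ∃ x ∈ P, ∃ c : F, v = c • f x

/-! ### The field of order 4 -/

theorem cube (hF : Fintype.card F = 2 ^ 2) {c : F} (hc : c ≠ 0) : c * c ^ 2 = 1 := by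
  have h1 := FiniteField.pow_card_sub_one_eq_one c hc
  rw [hF] at h1
  have h2 : c * c ^ 2 = c ^ (2 ^ 2 - 1) := by norm_num; ring
  rw [h2, h1]

theorem one_add_one (hF : Fintype.card F = 2 ^ 2) : (1 : F) + 1 = 0 := by
  have h := FiniteField.cast_card_eq_zero F
  rw [hF] at h
  have h4 : (4 : F) = 0 := by exact_mod_cast h
  have h5 : ((1 : F) + 1) * (1 + 1) = 0 := by
    have : ((1 : F) + 1) * (1 + 1) = 4 := by norm_num
    rw [this, h4]
  rcases mul_eq_zero.1 h5 with h6 | h6 <;> exact h6

theorem add_self (hF : Fintype.card F = 2 ^ 2) (a : F) : a + a = 0 := by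
  have : a + a = (1 + 1) * a := by ring
  rw [this, one_add_one hF, zero_mul]

theorem eq_of_add (hF : Fintype.card F = 2 ^ 2) {a b : F} (h : a + b = 0) : a = b := by
  have h1 := add_self hF b
  exact add_right_cancel (h.trans h1.symm)

theorem eq_of_mul_sq (hF : Fintype.card F = 2 ^ 2) {c d : F} (hd : d ≠ 0)
    (h : 1 + c * d ^ 2 = 0) : c = d := by
  have h1 := eq_of_add hF h
  have h2 := cube hF hd
  rw [h1] at h2
  exact (mul_right_cancel₀ (pow_ne_zero 2 hd) h2).symm

variable [Fintype G]

/-- points of `P` in a subspace -/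
def pts (P : Set G) (f : G → Fin 6 → F) (W : Submodule F (Fin 6 → F)) : Finset G :=
  Finset.univ.filter (fun x => x ∈ P ∧ f x ∈ W)

variable {P : Set G} {f : G → Fin 6 → F}

omit [Fintype F] [Group G] in
theorem mem_pts {W : Submodule F (Fin 6 → F)} {x : G} : x ∈ pts P f W ↔ x ∈ P ∧ f x ∈ W := by
  simp [pts]

theorem card_pts (hF : Fintype.card F = 2 ^ 2) (U : UData P f) {W : Submodule F (Fin 6 → F)}
    (hW : TI W) : (pts P f W).card * 3 = 4 ^ finrank F W - 1 := by
  set t : Finset (Fin 6 → F) := Finset.univ.filter (fun v => v ∈ W ∧ v ≠ 0) with ht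
  have h1 : (pts P f W).card * 3 = t.card * 1 := by
    refine Finset.card_mul_eq_card_mul (fun x v => ∃ c : F, v = c • f x) ?_ ?_
    · intro x hx
      rw [mem_pts] at hx
      have h2 : Finset.bipartiteAbove (fun (x : G) (v : Fin 6 → F) => ∃ c : F, v = c • f x) t x =
          (Finset.univ.erase (0 : F)).image (fun c => c • f x) := by
        ext v
        rw [Finset.bipartiteAbove, Finset.mem_filter, ht, Finset.mem_filter, Finset.mem_image]
        constructor
        · rintro ⟨⟨-, h3, h4⟩, c, rfl⟩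
          refine ⟨c, Finset.mem_erase.2 ⟨?_, Finset.mem_univ _⟩, rfl⟩
          rintro rfl
          exact h4 (zero_smul _ _)
        · rintro ⟨c, hc, rfl⟩
          have hc0 := (Finset.mem_erase.1 hc).1
          exact ⟨⟨Finset.mem_univ _, W.smul_mem c hx.2, smul_ne_zero hc0 (U.ne x hx.1)⟩, c, rfl⟩
      rw [h2, Finset.card_image_of_injective, Finset.card_erase_of_mem (Finset.mem_univ _),
        Finset.card_univ, hF]
      · norm_num
      · intro a b hab
        exact smul_left_injective F (U.ne x hx.1) hab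
    · intro v hv
      rw [ht, Finset.mem_filter] at hv
      obtain ⟨x, hx, c, hc⟩ := U.surj v hv.2.2 (hW v hv.2.1 v hv.2.1)
      have hc0 : c ≠ 0 := by
        rintro rfl
        exact hv.2.2 (by rw [hc, zero_smul])
      have hfx : f x = c⁻¹ • v := by rw [hc, smul_smul, inv_mul_cancel₀ hc0, one_smul]
      rw [Finset.card_eq_one]
      refine ⟨x, ?_⟩
      ext y
      rw [Finset.bipartiteBelow, Finset.mem_filter, mem_pts, Finset.mem_singleton]
      constructor
      · rintro ⟨⟨hy, _⟩, d, hd⟩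
        refine (U.inj x hx y hy (c⁻¹ * d) ?_).symm
        rw [hfx, hd, smul_smul]
      · rintro rfl
        exact ⟨⟨hx, by rw [hfx]; exact W.smul_mem _ hv.2.1⟩, c, hc⟩
  have h2 : t.card + 1 = 4 ^ finrank F W := by
    have h3 : Fintype.card W = 4 ^ finrank F W := by
      rw [Module.card_eq_pow_finrank (K := F) (V := W), hF]
      norm_num
    have h4 : Fintype.card W = (Finset.univ.filter (fun v => v ∈ W)).card :=
      Fintype.card_subtype _
    have h5 : Finset.univ.filter (fun v => v ∈ W) = insert (0 : Fin 6 → F) t := by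
      ext v
      rw [Finset.mem_filter, Finset.mem_insert, ht, Finset.mem_filter]
      constructor
      · rintro ⟨-, h6⟩
        by_cases h0 : v = 0
        · exact Or.inl h0
        · exact Or.inr ⟨Finset.mem_univ _, h6, h0⟩
      · rintro (rfl | h6)
        · exact ⟨Finset.mem_univ _, W.zero_mem⟩
        · exact ⟨Finset.mem_univ _, h6.2.1⟩
    rw [← h3, h4, h5, Finset.card_insert_of_notMem]
    rw [ht, Finset.mem_filter]
    exact fun h => h.2.2 rfl
  omega

omit [Fintype F] in
theorem perp_of_pts (U : UData P f) {W : Submodule F (Fin 6 → F)} (hW : TI W) {v : Fin 6 → F}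
    (h : ∀ x ∈ pts P f W, hermForm 6 F 2 v (f x) = 0) : ∀ w ∈ W, hermForm 6 F 2 v w = 0 := by
  intro w hw
  by_cases h0 : w = 0
  · rw [h0]
    simp [herm_def]
  · obtain ⟨x, hx, c, hc⟩ := U.surj w h0 (hW w hw w hw)
    have hc0 : c ≠ 0 := by
      rintro rfl
      exact h0 (by rw [hc, zero_smul])
    have hfx : f x ∈ W := by
      have : f x = c⁻¹ • w := by rw [hc, smul_smul, inv_mul_cancel₀ hc0, one_smul]
      rw [this]
      exact W.smul_mem _ hw
    rw [hc, herm_smul_right, h x (mem_pts.2 ⟨hx, hfx⟩), mul_zero]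

theorem isBase_pts (hF : Fintype.card F = 2 ^ 2) (U : UData P f) {W : Submodule F (Fin 6 → F)}
    (hW : TI W) (h3 : finrank F W = 3) : IsBase P (pts P f W) where
  sub a ha := (mem_pts.1 ha).1
  comm a ha b hb := by
    rw [mem_pts] at ha hb
    exact (U.comm a ha.1 b hb.1).2 (hW _ ha.2 _ hb.2)
  max g hg hc := by
    rw [mem_pts]
    refine ⟨hg, mem_of_perp hF hW h3 (perp_of_pts U hW ?_)⟩
    intro x hx
    exact (U.comm g hg x (mem_pts.1 hx).1).1 (hc x hx)

theorem TI_span (hF : Fintype.card F = 2 ^ 2) {S : Set (Fin 6 → F)}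
    (h : ∀ u ∈ S, ∀ v ∈ S, hermForm 6 F 2 u v = 0) : TI (Submodule.span F S) := by
  have h1 : ∀ v ∈ S, ∀ u ∈ Submodule.span F S, hermForm 6 F 2 u v = 0 := by
    intro v hv u hu
    induction hu using Submodule.span_induction with
    | mem x hx => exact h x hx v hv
    | zero => exact herm_zero_left _
    | add x y _ _ hx hy => rw [herm_add_left, hx, hy, add_zero]
    | smul c x _ hx => rw [herm_smul_left, hx, mul_zero]
  intro u hu v hv
  induction hv using Submodule.span_induction with
  | mem x hx => exact h1 x hx u hu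
  | zero => exact herm_zero_right hF _
  | add x y _ _ hx hy => rw [herm_add_right hF, hx, hy, add_zero]
  | smul c x _ hx => rw [herm_smul_right, hx, mul_zero]

/-- maximal commuting sets are the planes -/
theorem exists_plane (hF : Fintype.card F = 2 ^ 2) (U : UData P f) {E : Finset G}
    (hE : IsBase P E) : ∃ W : Submodule F (Fin 6 → F), TI W ∧ finrank F W = 3 ∧
      E = pts P f W := by
  set W := Submodule.span F (f '' (E : Set G)) with hWdef
  have hW : TI W := by
    apply TI_span hF
    rintro _ ⟨a, ha, rfl⟩ _ ⟨b, hb, rfl⟩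
    exact (U.comm a (hE.sub a ha) b (hE.sub b hb)).1 (hE.comm a ha b hb)
  have hmem : ∀ x ∈ P, (∀ w ∈ W, hermForm 6 F 2 (f x) w = 0) → x ∈ E := by
    intro x hx h
    refine hE.max x hx fun a ha => (U.comm x hx a (hE.sub a ha)).2 ?_
    exact h _ (Submodule.subset_span ⟨a, ha, rfl⟩)
  refine ⟨W, hW, ?_, ?_⟩
  · by_contra h3
    obtain ⟨v, hv, hvW, hperp⟩ := exists_extend hF hW h3
    have hv0 : v ≠ 0 := fun h => hvW (h ▸ W.zero_mem)
    obtain ⟨x, hx, c, hc⟩ := U.surj v hv0 hv
    have hc0 : c ≠ 0 := by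
      rintro rfl
      exact hv0 (by rw [hc, zero_smul])
    have h1 : x ∈ E := by
      refine hmem x hx fun w hw => ?_
      have h2 := hperp w hw
      rw [hc, herm_smul_left] at h2
      exact (mul_eq_zero.1 h2).resolve_left hc0
    apply hvW
    rw [hc]
    exact W.smul_mem c (Submodule.subset_span ⟨x, h1, rfl⟩)
  · ext x
    rw [mem_pts]
    constructor
    · intro hx
      exact ⟨hE.sub x hx, Submodule.subset_span ⟨x, hx, rfl⟩⟩
    · rintro ⟨hx, hxW⟩
      exact hmem x hx fun w hw => hW _ hxW _ hw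

theorem card_base (hF : Fintype.card F = 2 ^ 2) (U : UData P f) {E : Finset G}
    (hE : IsBase P E) : E.card = 21 := by
  obtain ⟨W, hW, h3, rfl⟩ := exists_plane hF U hE
  have := card_pts hF U hW
  rw [h3] at this
  norm_num at this
  omega

omit [Fintype F] [Fintype G] in
theorem finrank_pair (U : UData P f) {u v : G} (hu : u ∈ P) (hv : v ∈ P) (huv : u ≠ v) :
    finrank F (Submodule.span F {f u, f v}) = 2 := by
  have h1 : LinearIndependent F ![f u, f v] := by
    rw [LinearIndependent.pair_iff' (U.ne u hu)]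
    intro a ha
    exact huv (U.inj v hv u hu a ha.symm).symm
  have h2 := finrank_span_eq_card h1
  rw [Matrix.range_cons, Matrix.range_cons, Matrix.range_empty, Set.union_empty,
    Fintype.card_fin] at h2
  exact h2

omit [Fintype G] in
theorem TI_pair (hF : Fintype.card F = 2 ^ 2) (U : UData P f) {u v : G} (hu : u ∈ P) (hv : v ∈ P)
    (huv : Commute u v) : TI (Submodule.span F {f u, f v}) := by
  apply TI_span hF
  have h1 := (U.comm u hu v hv).1 huv
  have h2 := (U.comm v hv u hu).1 huv.symm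
  rintro x (rfl | rfl) y (rfl | rfl)
  · exact U.iso u hu
  · exact h1
  · exact h2
  · exact U.iso v hv

/-- the double perp of a commuting pair is the line -/
theorem cl_pair (hF : Fintype.card F = 2 ^ 2) (U : UData P f) {u v : G} (hu : u ∈ P) (hv : v ∈ P)
    (huv : u ≠ v) (hc : Commute u v) : cl P {u, v} = pts P f (Submodule.span F {f u, f v}) := by
  set L := Submodule.span F {f u, f v} with hL
  have hLT : TI L := TI_pair hF U hu hv hc
  have hL2 : finrank F L = 2 := finrank_pair U hu hv huv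
  have huL : f u ∈ L := Submodule.subset_span (by simp)
  have hvL : f v ∈ L := Submodule.subset_span (by simp)
  ext x
  rw [mem_cl, mem_pts]
  refine and_congr_right fun hx => ?_
  constructor
  · intro h
    have hxu : Commute x u := h u hu (by
      intro s hs
      rw [Finset.mem_insert, Finset.mem_singleton] at hs
      rcases hs with rfl | rfl
      · exact Commute.refl _
      · exact hc)
    have hxv : Commute x v := h v hv (by
      intro s hs
      rw [Finset.mem_insert, Finset.mem_singleton] at hs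
      rcases hs with rfl | rfl
      · exact hc.symm
      · exact Commute.refl _)
    obtain ⟨g, hg1, hg2, hgg, hg4⟩ := frame hF (k := 2) (m := 2) (by norm_num) hL2 hLT
    have e0 : hermForm 6 F 2 (g 0) (g 0) = 1 := by rw [hgg, if_pos rfl]
    have e1 : hermForm 6 F 2 (g 1) (g 1) = 1 := by rw [hgg, if_pos rfl]
    have e01 : hermForm 6 F 2 (g 0) (g 1) = 0 := by rw [hgg, if_neg]; exact Fin.zero_ne_one
    have e10 : hermForm 6 F 2 (g 1) (g 0) = 0 := by rw [hgg, if_neg]; exact Fin.zero_ne_one.symm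
    have hxL : ∀ w ∈ L, hermForm 6 F 2 (f x) w = 0 := by
      intro w hw
      rw [hL] at hw
      induction hw using Submodule.span_induction with
      | mem y hy =>
        rcases hy with rfl | rfl
        · exact (U.comm x hx u hu).1 hxu
        · exact (U.comm x hx v hv).1 hxv
      | zero => exact herm_zero_right hF _
      | add y z _ _ hy hz => rw [herm_add_right hF, hy, hz, add_zero]
      | smul c y _ hy => rw [herm_smul_right, hy, mul_zero]
    obtain ⟨l, hl, hfx⟩ := hg4 _ hxL
    rw [Fin.sum_univ_two] at hfx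
    set a := hermForm 6 F 2 (f x) (g 0) with ha
    set b := hermForm 6 F 2 (f x) (g 1) with hb
    -- every isotropic `g 0 + c • g 1` is orthogonal to `f x`
    have key : ∀ c : F, c ≠ 0 → a + c ^ 2 * b = 0 := by
      intro c hc0
      set y := g 0 + c • g 1 with hy
      have hyy : hermForm 6 F 2 y y = 0 := by
        rw [hy, herm_add_left, herm_add_right hF, herm_add_right hF, herm_smul_left,
          herm_smul_left, herm_smul_right, herm_smul_right, e0, e1, e01, e10, mul_zero, mul_zero,
          add_zero, zero_add, mul_one, cube hF hc0, one_add_one hF]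
      have hy0 : y ≠ 0 := by
        intro h0
        have h1 : hermForm 6 F 2 y (g 0) = 1 := by
          rw [hy, herm_add_left, herm_smul_left, e0, e10, mul_zero, add_zero]
        rw [h0, herm_zero_left] at h1
        exact zero_ne_one h1
      obtain ⟨d, hd, k, hk⟩ := U.surj y hy0 hyy
      have hk0 : k ≠ 0 := by
        rintro rfl
        exact hy0 (by rw [hk, zero_smul])
      have hyL : ∀ w ∈ L, hermForm 6 F 2 y w = 0 := by
        intro w hw
        rw [hy, herm_add_left, herm_smul_left, hg2 w hw, hg2 w hw, mul_zero, add_zero]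
      have hdL : ∀ w ∈ L, hermForm 6 F 2 (f d) w = 0 := by
        intro w hw
        have := hyL w hw
        rw [hk, herm_smul_left] at this
        exact (mul_eq_zero.1 this).resolve_left hk0
      have hxd := h d hd (by
        intro s hs
        rw [Finset.mem_insert, Finset.mem_singleton] at hs
        rcases hs with rfl | rfl
        · exact (U.comm d hd _ hu).2 (hdL _ huL)
        · exact (U.comm d hd _ hv).2 (hdL _ hvL))
      have h1 : hermForm 6 F 2 (f x) y = 0 := by
        rw [hk, herm_smul_right, (U.comm x hx d hd).1 hxd, mul_zero]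
      rwa [hy, herm_add_right hF, herm_smul_right, ← ha, ← hb] at h1
    have hb0 : b = 0 := by
      by_contra hb0
      have h1 := key 1 one_ne_zero
      obtain ⟨c, hc0, hc1⟩ : ∃ c : F, c ≠ 0 ∧ c ≠ 1 := by
        by_contra hcon
        push Not at hcon
        have h2 : (Finset.univ : Finset F) ⊆ {0, 1} := by
          intro c _
          rw [Finset.mem_insert, Finset.mem_singleton]
          by_cases hc0 : c = 0
          · exact Or.inl hc0
          · exact Or.inr (hcon c hc0)
        have h3 := (Finset.card_le_card h2).trans (Finset.card_le_two)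
        rw [Finset.card_univ, hF] at h3
        omega
      have h2 := key c hc0
      have h3 : (c ^ 2 - 1 ^ 2) * b = 0 := by linear_combination h2 - h1
      rcases mul_eq_zero.1 h3 with h4 | h4
      · apply hc1
        exact (pow_q_inj hF).1 (sub_eq_zero.1 h4)
      · exact hb0 h4
    have ha0 : a = 0 := by
      have := key 1 one_ne_zero
      rw [hb0, mul_zero, add_zero] at this
      exact this
    rw [hfx, ha0, hb0, zero_smul, zero_smul, add_zero, add_zero]
    exact hl
  · intro hxL d hd hdS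
    have h1 : ∀ w ∈ L, hermForm 6 F 2 (f d) w = 0 := by
      intro w hw
      rw [hL] at hw
      induction hw using Submodule.span_induction with
      | mem y hy =>
        rcases hy with rfl | rfl
        · exact (U.comm d hd u hu).1 (hdS u (by simp))
        · exact (U.comm d hd v hv).1 (hdS v (by simp))
      | zero => exact herm_zero_right hF _
      | add y z _ _ hy hz => rw [herm_add_right hF, hy, hz, add_zero]
      | smul c y _ hy => rw [herm_smul_right, hy, mul_zero]
    exact ((U.comm d hd x hx).2 (h1 _ hxL)).symm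

theorem card_cl_pair (hF : Fintype.card F = 2 ^ 2) (U : UData P f) {u v : G} (hu : u ∈ P)
    (hv : v ∈ P) (huv : u ≠ v) (hc : Commute u v) : (cl P {u, v}).card = 5 := by
  rw [cl_pair hF U hu hv huv hc]
  have := card_pts hF U (TI_pair hF U hu hv hc)
  rw [finrank_pair U hu hv huv] at this
  norm_num at this
  omega

/-- a totally isotropic line is spanned by two of its points -/
theorem exists_pair (hF : Fintype.card F = 2 ^ 2) (U : UData P f) {L : Submodule F (Fin 6 → F)}
    (hL : TI L) (h2 : finrank F L = 2) :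
    ∃ u ∈ pts P f L, ∃ v ∈ pts P f L, u ≠ v ∧ pts P f L = cl P {u, v} := by
  have h5 : (pts P f L).card = 5 := by
    have := card_pts hF U hL
    rw [h2] at this
    norm_num at this
    omega
  obtain ⟨u, hu, v, hv, huv⟩ := Finset.one_lt_card.1 (by omega : 1 < (pts P f L).card)
  refine ⟨u, hu, v, hv, huv, ?_⟩
  rw [mem_pts] at hu hv
  have hc : Commute u v := (U.comm u hu.1 v hv.1).2 (hL _ hu.2 _ hv.2)
  rw [cl_pair hF U hu.1 hv.1 huv hc]
  have h3 : Submodule.span F {f u, f v} ≤ L := by
    rw [Submodule.span_le]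
    rintro x (rfl | rfl)
    · exact hu.2
    · exact hv.2
  rw [Submodule.eq_of_le_of_finrank_eq h3 (by rw [finrank_pair U hu.1 hv.1 huv, h2])]

/-- the points of a plane commuting with a point off the plane form a line -/
theorem exists_line (hF : Fintype.card F = 2 ^ 2) (U : UData P f) {E : Finset G}
    (hE : IsBase P E) {d : G} (hd : d ∈ P) (hdE : d ∉ E) :
    ∃ u ∈ E, ∃ v ∈ E, u ≠ v ∧ CP d E = cl P {u, v} := by
  obtain ⟨W, hW, h3, rfl⟩ := exists_plane hF U hE
  set φ : W →ₗ[F] F := (leftFun 2 (f d)).domRestrict W with hφ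
  have hφ' : ∀ w : W, φ w = hermForm 6 F 2 w (f d) := fun w => rfl
  have hφ0 : φ ≠ 0 := by
    intro h0
    apply hdE
    rw [mem_pts]
    refine ⟨hd, mem_of_perp hF hW h3 fun w hw => ?_⟩
    apply herm_eq_zero_swap hF
    have := LinearMap.congr_fun h0 ⟨w, hw⟩
    exact this
  have hsurj : Function.Surjective φ := LinearMap.surjective hφ0
  have hker : finrank F (LinearMap.ker φ) = 2 := by
    have h1 := LinearMap.finrank_range_add_finrank_ker φ
    rw [LinearMap.range_eq_top.2 hsurj, finrank_top, finrank_self, h3] at h1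
    omega
  set L : Submodule F (Fin 6 → F) := (LinearMap.ker φ).map W.subtype with hL
  have hL2 : finrank F L = 2 := by
    rw [hL, Submodule.finrank_map_subtype_eq, hker]
  have hmemL : ∀ w, w ∈ L ↔ w ∈ W ∧ hermForm 6 F 2 w (f d) = 0 := by
    intro w
    rw [hL, Submodule.mem_map]
    constructor
    · rintro ⟨y, hy, rfl⟩
      exact ⟨y.2, hy⟩
    · rintro ⟨h1, h2⟩
      exact ⟨⟨w, h1⟩, h2, rfl⟩
  have hLT : TI L := fun u hu v hv => hW u ((hmemL u).1 hu).1 v ((hmemL v).1 hv).1
  have hCP : CP d (pts P f W) = pts P f L := by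
    ext x
    rw [mem_CP, mem_pts, mem_pts, hmemL]
    constructor
    · rintro ⟨⟨h1, h2⟩, h4⟩
      exact ⟨h1, h2, (U.comm x h1 d hd).1 h4.symm⟩
    · rintro ⟨h1, h2, h4⟩
      exact ⟨⟨h1, h2⟩, ((U.comm x h1 d hd).2 h4).symm⟩
  obtain ⟨u, hu, v, hv, huv, h4⟩ := exists_pair hF U hLT hL2
  have hsub : ∀ x ∈ pts P f L, x ∈ pts P f W := by
    intro x hx
    rw [mem_pts, hmemL] at hx
    exact mem_pts.2 ⟨hx.1, hx.2.1⟩
  exact ⟨u, hsub u hu, v, hsub v hv, huv, by rw [hCP, h4]⟩

/-- the two other planes through a line -/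
theorem exists_split (hF : Fintype.card F = 2 ^ 2) (U : UData P f) {E : Finset G}
    (hE : IsBase P E) {u v : G} (hu : u ∈ E) (hv : v ∈ E) (huv : u ≠ v) :
    ∃ B₁ B₂ : Finset G, Disjoint B₁ B₂ ∧ B₁.card = 16 ∧ B₂.card = 16 ∧
      B₁ ∪ B₂ = Del P E (cl P {u, v}) ∧ IsBase P (cl P {u, v} ∪ B₁) ∧
      IsBase P (cl P {u, v} ∪ B₂) := by
  have huP := hE.sub u hu
  have hvP := hE.sub v hv
  have hc := hE.comm u hu v hv
  rw [cl_pair hF U huP hvP huv hc]
  set L := Submodule.span F {f u, f v} with hL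
  have hLT : TI L := TI_pair hF U huP hvP hc
  have hL2 : finrank F L = 2 := finrank_pair U huP hvP huv
  have huL : f u ∈ L := Submodule.subset_span (by simp)
  have hvL : f v ∈ L := Submodule.subset_span (by simp)
  obtain ⟨W, hW, h3, rfl⟩ := exists_plane hF U hE
  have hLW : L ≤ W := by
    rw [hL, Submodule.span_le]
    rintro x (rfl | rfl)
    · exact (mem_pts.1 hu).2
    · exact (mem_pts.1 hv).2
  obtain ⟨g, hg1, hg2, hgg, hg4⟩ := frame hF (k := 2) (m := 2) (by norm_num) hL2 hLT
  have e0 : hermForm 6 F 2 (g 0) (g 0) = 1 := by rw [hgg, if_pos rfl]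
  have e1 : hermForm 6 F 2 (g 1) (g 1) = 1 := by rw [hgg, if_pos rfl]
  have e01 : hermForm 6 F 2 (g 0) (g 1) = 0 := by rw [hgg, if_neg]; exact Fin.zero_ne_one
  have e10 : hermForm 6 F 2 (g 1) (g 0) = 0 := by rw [hgg, if_neg]; exact Fin.zero_ne_one.symm
  -- the planes through `L`
  let Wc : F → Submodule F (Fin 6 → F) := fun c => L ⊔ Submodule.span F {g 0 + c • g 1}
  have hmemWc : ∀ (c : F) (x : Fin 6 → F), x ∈ Wc c ↔
      ∃ l ∈ L, ∃ a : F, x = l + a • (g 0 + c • g 1) := by
    intro c x
    constructor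
    · intro hx
      obtain ⟨l, hl, y, hy, rfl⟩ := Submodule.mem_sup.1 hx
      obtain ⟨a, rfl⟩ := Submodule.mem_span_singleton.1 hy
      exact ⟨l, hl, a, rfl⟩
    · rintro ⟨l, hl, a, rfl⟩
      exact Submodule.add_mem_sup hl (Submodule.smul_mem _ _ (Submodule.mem_span_singleton_self _))
  -- inner products
  have hip : ∀ (c c' a a' : F) (l l' : Fin 6 → F), l ∈ L → l' ∈ L →
      hermForm 6 F 2 (l + a • (g 0 + c • g 1)) (l' + a' • (g 0 + c' • g 1)) =
        a * a' ^ 2 * (1 + c * c' ^ 2) := by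
    intro c c' a a' l l' hl hl'
    simp only [herm_add_left, herm_add_right hF, herm_smul_left, herm_smul_right, hLT l hl l' hl',
      hg1 l hl, hg2 l' hl', e0, e1, e01, e10]
    ring
  have hWcT : ∀ c : F, c ≠ 0 → TI (Wc c) := by
    intro c hc0 x hx y hy
    obtain ⟨l, hl, a, rfl⟩ := (hmemWc c x).1 hx
    obtain ⟨l', hl', a', rfl⟩ := (hmemWc c y).1 hy
    rw [hip c c a a' l l' hl hl', cube hF hc0, one_add_one hF, mul_zero]
  have hcoef : ∀ (c a : F) (l : Fin 6 → F), l ∈ L →
      hermForm 6 F 2 (l + a • (g 0 + c • g 1)) (g 0) = a ∧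
      hermForm 6 F 2 (l + a • (g 0 + c • g 1)) (g 1) = a * c := by
    intro c a l hl
    constructor
    · rw [herm_add_left, herm_smul_left, herm_add_left, herm_smul_left, hg1 l hl, e0, e10]
      ring
    · rw [herm_add_left, herm_smul_left, herm_add_left, herm_smul_left, hg1 l hl, e1, e01]
      ring
  have hLlt : ∀ c : F, L < Wc c := by
    intro c
    refine lt_of_le_of_ne le_sup_left fun heq => ?_
    have h1 : (0 : Fin 6 → F) + (1 : F) • (g 0 + c • g 1) ∈ L := by
      rw [heq]
      exact (hmemWc c _).2 ⟨0, L.zero_mem, 1, rfl⟩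
    have h2 := hg1 _ h1 0
    rw [(hcoef c 1 0 L.zero_mem).1] at h2
    exact one_ne_zero h2
  have hWc3 : ∀ c : F, c ≠ 0 → finrank F (Wc c) = 3 := by
    intro c hc0
    have h1 := finrank_le hF (hWcT c hc0)
    have h2 := Submodule.finrank_lt_finrank_of_lt (hLlt c)
    omega
  -- intersections
  have hint : ∀ (c c' : F) (x : Fin 6 → F), c ≠ c' → x ∈ Wc c → x ∈ Wc c' → x ∈ L := by
    intro c c' x hcc hx hx'
    obtain ⟨l, hl, a, hxa⟩ := (hmemWc c x).1 hx
    obtain ⟨l', hl', a', hxa'⟩ := (hmemWc c' x).1 hx'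
    have k1 := hcoef c a l hl
    have k2 := hcoef c' a' l' hl'
    rw [← hxa] at k1
    rw [← hxa'] at k2
    have haa : a = a' := k1.1.symm.trans k2.1
    have h4 : a * c = a * c' := by rw [← k1.2, k2.2, haa]
    by_cases ha0 : a = 0
    · rw [hxa, ha0, zero_smul, add_zero]; exact hl
    · exact absurd (mul_left_cancel₀ ha0 h4) hcc
  -- covering
  have hcov : ∀ x : Fin 6 → F, hermForm 6 F 2 x x = 0 → (∀ w ∈ L, hermForm 6 F 2 x w = 0) →
      x ∉ L → ∃ c : F, c ≠ 0 ∧ x ∈ Wc c := by
    intro x hx hxL hxL'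
    obtain ⟨l, hl, hfx⟩ := hg4 _ hxL
    rw [Fin.sum_univ_two] at hfx
    set a := hermForm 6 F 2 x (g 0) with ha
    set b := hermForm 6 F 2 x (g 1) with hb
    have hxx : a * a ^ 2 + b * b ^ 2 = 0 := by
      rw [hfx] at hx
      rw [← hx]
      simp only [herm_add_left, herm_add_right hF, herm_smul_left, herm_smul_right, hLT l hl l hl,
        hg1 l hl, hg2 l hl, e0, e1, e01, e10]
      ring
    have ha0 : a ≠ 0 := by
      intro ha0
      have hb0 : b = 0 := by
        rw [ha0] at hxx
        have h1 : b * b ^ 2 = 0 := by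
          rw [← hxx]; ring
        rcases mul_eq_zero.1 h1 with h2 | h2
        · exact h2
        · exact pow_eq_zero_iff (two_ne_zero) |>.1 h2
      apply hxL'
      rw [hfx, ha0, hb0, zero_smul, zero_smul, add_zero, add_zero]
      exact hl
    have hb0 : b ≠ 0 := by
      intro hb0
      rw [hb0] at hxx
      have h1 : a * a ^ 2 = 0 := by
        rw [← hxx]; ring
      rcases mul_eq_zero.1 h1 with h2 | h2
      · exact ha0 h2
      · exact ha0 (pow_eq_zero_iff (two_ne_zero) |>.1 h2)
    refine ⟨a⁻¹ * b, mul_ne_zero (inv_ne_zero ha0) hb0, (hmemWc _ _).2 ⟨l, hl, a, ?_⟩⟩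
    rw [hfx, smul_add, smul_smul, ← mul_assoc, mul_inv_cancel₀ ha0, one_mul]
  -- `W` is one of them
  obtain ⟨c₀, hc₀, hWc₀⟩ : ∃ c : F, c ≠ 0 ∧ W = Wc c := by
    obtain ⟨w, hw, hwL⟩ : ∃ w ∈ W, w ∉ L := by
      by_contra hcon
      push Not at hcon
      have h1 : W ≤ L := hcon
      have := Submodule.finrank_mono h1
      omega
    obtain ⟨c, hc0, hwc⟩ := hcov w (hW w hw w hw) (fun l hl => hW w hw l (hLW hl)) hwL
    refine ⟨c, hc0, ?_⟩
    symm
    apply Submodule.eq_of_le_of_finrank_eq
    · refine sup_le hLW ?_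
      rw [Submodule.span_singleton_le_iff_mem]
      obtain ⟨l, hl, a, hwa⟩ := (hmemWc c w).1 hwc
      have ha0 : a ≠ 0 := by
        rintro rfl
        rw [zero_smul, add_zero] at hwa
        exact hwL (hwa ▸ hl)
      have h1 : g 0 + c • g 1 = a⁻¹ • (w - l) := by
        rw [hwa, add_sub_cancel_left, smul_smul, inv_mul_cancel₀ ha0, one_smul]
      rw [h1]
      exact W.smul_mem _ (W.sub_mem hw (hLW hl))
    · rw [hWc3 c hc0, h3]
  -- the other two
  obtain ⟨c₁, c₂, hc12, hcs⟩ : ∃ c₁ c₂ : F, c₁ ≠ c₂ ∧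
      (Finset.univ.erase (0 : F)).erase c₀ = {c₁, c₂} := by
    rw [← Finset.card_eq_two, Finset.card_erase_of_mem
      (Finset.mem_erase.2 ⟨hc₀, Finset.mem_univ _⟩), Finset.card_erase_of_mem
      (Finset.mem_univ _), Finset.card_univ, hF]
    norm_num
  have hc₁ : c₁ ≠ c₀ ∧ c₁ ≠ 0 := by
    have : c₁ ∈ (Finset.univ.erase (0 : F)).erase c₀ := by rw [hcs]; simp
    rw [Finset.mem_erase, Finset.mem_erase] at this
    exact ⟨this.1, this.2.1⟩
  have hc₂ : c₂ ≠ c₀ ∧ c₂ ≠ 0 := by
    have : c₂ ∈ (Finset.univ.erase (0 : F)).erase c₀ := by rw [hcs]; simp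
    rw [Finset.mem_erase, Finset.mem_erase] at this
    exact ⟨this.1, this.2.1⟩
  have hall : ∀ c : F, c ≠ 0 → c ≠ c₀ → c = c₁ ∨ c = c₂ := by
    intro c h1 h2
    have : c ∈ (Finset.univ.erase (0 : F)).erase c₀ :=
      Finset.mem_erase.2 ⟨h2, Finset.mem_erase.2 ⟨h1, Finset.mem_univ _⟩⟩
    rw [hcs, Finset.mem_insert, Finset.mem_singleton] at this
    exact this
  -- points
  have hsubW : ∀ c : F, pts P f L ⊆ pts P f (Wc c) := by
    intro c x hx
    rw [mem_pts] at hx ⊢
    exact ⟨hx.1, (hLlt c).le hx.2⟩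
  have hcardL : (pts P f L).card = 5 := by
    have := card_pts hF U hLT
    rw [hL2] at this
    norm_num at this
    omega
  have hcardW : ∀ c : F, c ≠ 0 → (pts P f (Wc c) \ pts P f L).card = 16 := by
    intro c hc0
    rw [Finset.card_sdiff_of_subset (hsubW c), hcardL]
    have := card_pts hF U (hWcT c hc0)
    rw [hWc3 c hc0] at this
    norm_num at this
    omega
  have hmemB : ∀ (c : F) (x : G), x ∈ pts P f (Wc c) \ pts P f L ↔
      x ∈ P ∧ f x ∈ Wc c ∧ f x ∉ L := by
    intro c x
    rw [Finset.mem_sdiff, mem_pts, mem_pts]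
    tauto
  refine ⟨pts P f (Wc c₁) \ pts P f L, pts P f (Wc c₂) \ pts P f L, ?_, hcardW c₁ hc₁.2,
    hcardW c₂ hc₂.2, ?_, ?_, ?_⟩
  · rw [Finset.disjoint_left]
    intro x hx hx'
    rw [hmemB] at hx hx'
    exact hx.2.2 (hint c₁ c₂ _ hc12 hx.2.1 hx'.2.1)
  · have hone : ∀ c : F, c ≠ 0 → c ≠ c₀ → ∀ x, x ∈ pts P f (Wc c) \ pts P f L →
        x ∈ Del P (pts P f W) (pts P f L) := by
      intro c hc0 hcc x hx
      rw [hmemB] at hx
      obtain ⟨hxP, hxc, hxL⟩ := hx
      rw [mem_Del]
      refine ⟨hxP, ?_, ?_⟩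
      · intro h1
        rw [mem_pts, hWc₀] at h1
        exact hxL (hint c c₀ _ hcc hxc h1.2)
      · ext w
        rw [mem_CP, mem_pts, mem_pts]
        constructor
        · rintro ⟨⟨hwP, hwW⟩, hxw⟩
          refine ⟨hwP, ?_⟩
          rw [hWc₀] at hwW
          obtain ⟨l, hl, a, hfa⟩ := (hmemWc c _).1 hxc
          obtain ⟨l', hl', a', hfa'⟩ := (hmemWc c₀ _).1 hwW
          have h1 := (U.comm x hxP w hwP).1 hxw
          rw [hfa, hfa', hip c c₀ a a' l l' hl hl'] at h1
          have ha0 : a ≠ 0 := by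
            rintro rfl
            rw [zero_smul, add_zero] at hfa
            exact hxL (hfa ▸ hl)
          rcases mul_eq_zero.1 h1 with h4 | h4
          · rcases mul_eq_zero.1 h4 with h5 | h5
            · exact absurd h5 ha0
            · have ha' : a' = 0 := pow_eq_zero_iff (two_ne_zero) |>.1 h5
              rw [hfa', ha', zero_smul, add_zero]
              exact hl'
          · exact absurd (eq_of_mul_sq hF hc₀ h4) hcc
        · rintro ⟨hwP, hwL⟩
          refine ⟨⟨hwP, hLW hwL⟩, (U.comm x hxP w hwP).2 ?_⟩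
          exact hWcT c hc0 _ hxc _ ((hLlt c).le hwL)
    ext x
    constructor
    · intro hx
      rw [Finset.mem_union] at hx
      rcases hx with hx | hx
      · exact hone c₁ hc₁.2 hc₁.1 x hx
      · exact hone c₂ hc₂.2 hc₂.1 x hx
    · intro hx
      obtain ⟨hxP, hxW, hxC⟩ := mem_Del.1 hx
      have hxu : x ∈ P ∧ Commute x u := by
        have : u ∈ CP x (pts P f W) := by rw [hxC]; exact mem_pts.2 ⟨huP, huL⟩
        exact ⟨hxP, (mem_CP.1 this).2⟩
      have hxv : x ∈ P ∧ Commute x v := by
        have : v ∈ CP x (pts P f W) := by rw [hxC]; exact mem_pts.2 ⟨hvP, hvL⟩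
        exact ⟨hxP, (mem_CP.1 this).2⟩
      have hxL : ∀ w ∈ L, hermForm 6 F 2 (f x) w = 0 := by
        intro w hw
        rw [hL] at hw
        induction hw using Submodule.span_induction with
        | mem y hy =>
          rcases hy with rfl | rfl
          · exact (U.comm x hxP u huP).1 hxu.2
          · exact (U.comm x hxP v hvP).1 hxv.2
        | zero => exact herm_zero_right hF _
        | add y z _ _ hy hz => rw [herm_add_right hF, hy, hz, add_zero]
        | smul c y _ hy => rw [herm_smul_right, hy, mul_zero]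
      have hxL' : f x ∉ L := fun h => hxW (mem_pts.2 ⟨hxP, hLW h⟩)
      obtain ⟨c, hc0, hxc⟩ := hcov _ (U.iso x hxP) hxL hxL'
      have hcc : c ≠ c₀ := by
        rintro rfl
        exact hxW (mem_pts.2 ⟨hxP, hWc₀ ▸ hxc⟩)
      rw [Finset.mem_union, hmemB, hmemB]
      rcases hall c hc0 hcc with rfl | rfl
      · exact Or.inl ⟨hxP, hxc, hxL'⟩
      · exact Or.inr ⟨hxP, hxc, hxL'⟩
  · rw [Finset.union_sdiff_of_subset (hsubW c₁)]
    exact isBase_pts hF U (hWcT c₁ hc₁.2) (hWc3 c₁ hc₁.2)
  · rw [Finset.union_sdiff_of_subset (hsubW c₂)]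
    exact isBase_pts hF U (hWcT c₂ hc₂.2) (hWc3 c₂ hc₂.2)

end

end Cfsg.Agent.Fischer545.Uni
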