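import Mathlib
import Cfsg.Agent.Fischer480.Defs
import Cfsg.Agent.Fischer545.Uni
import Cfsg.Agent.Fischer545.Final

set_option autoImplicit false

/-!
# A group of type `Fi24` is not perfect
-/

namespace Cfsg.Agent.Fischer545.TEight

open Cfsg Cfsg.Agent.SporadicStructure.FischerSpace
open Cfsg.Agent.Fischer545.Comb Cfsg.Agent.Fischer545.Uni Cfsg.Agent.Fischer480.Defs
open scoped Classical commutatorElement

noncomputable section

variable {G : Type*} [Group G] {D : Set G}

/-- the common neighbours of `x, y, z` -/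
abbrev PP (D : Set G) (x y z : G) : Set G := Loc (Loc (Loc D x) y) z

theorem mem_PP {x y z g : G} : g ∈ PP D x y z ↔
    g ∈ D ∧ g ≠ x ∧ g ≠ y ∧ g ≠ z ∧ Commute x g ∧ Commute y g ∧ Commute z g := by
  constructor
  · rintro ⟨⟨⟨h1, h2, h3⟩, h4, h5⟩, h6, h7⟩
    exact ⟨h1, h2, h4, h6, h3, h5, h7⟩
  · rintro ⟨h1, h2, h4, h6, h3, h5, h7⟩
    exact ⟨⟨⟨h1, h2, h3⟩, h4, h5⟩, h6, h7⟩

theorem not_mem_PP {x y z g : G} (hg : g ∈ PP D x y z) : g ∉ ({x, y, z} : Finset G) := by
  rw [mem_PP] at hg
  simp only [Finset.mem_insert, Finset.mem_singleton, not_or]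
  exact ⟨hg.2.1, hg.2.2.1, hg.2.2.2.1⟩

theorem commute_PP {x y z g s : G} (hg : g ∈ PP D x y z) (hs : s ∈ ({x, y, z} : Finset G)) :
    Commute g s := by
  rw [mem_PP] at hg
  simp only [Finset.mem_insert, Finset.mem_singleton] at hs
  rcases hs with rfl | rfl | rfl
  · exact hg.2.2.2.2.1.symm
  · exact hg.2.2.2.2.2.1.symm
  · exact hg.2.2.2.2.2.2.symm

/-- a commuting triple in `D` -/
structure Tri (D : Set G) (x y z : G) : Prop where
  hx : x ∈ D
  hy : y ∈ D
  hz : z ∈ D
  xy : x ≠ y
  xz : x ≠ z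
  yz : y ≠ z
  cxy : Commute x y
  cxz : Commute x z
  cyz : Commute y z

theorem Tri.mem {x y z s : G} (t : Tri D x y z) (hs : s ∈ ({x, y, z} : Finset G)) : s ∈ D := by
  simp only [Finset.mem_insert, Finset.mem_singleton] at hs
  rcases hs with rfl | rfl | rfl
  · exact t.hx
  · exact t.hy
  · exact t.hz

theorem Tri.comm {x y z s s' : G} (t : Tri D x y z) (hs : s ∈ ({x, y, z} : Finset G))
    (hs' : s' ∈ ({x, y, z} : Finset G)) : Commute s s' := by
  simp only [Finset.mem_insert, Finset.mem_singleton] at hs hs'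
  rcases hs with rfl | rfl | rfl <;> rcases hs' with rfl | rfl | rfl
  · exact Commute.refl _
  · exact t.cxy
  · exact t.cxz
  · exact t.cxy.symm
  · exact Commute.refl _
  · exact t.cyz
  · exact t.cxz.symm
  · exact t.cyz.symm
  · exact Commute.refl _

theorem mem_PP_of {x y z g : G} (hg : g ∈ D) (hn : g ∉ ({x, y, z} : Finset G))
    (hc : ∀ s ∈ ({x, y, z} : Finset G), Commute g s) : g ∈ PP D x y z := by
  rw [mem_PP]
  simp only [Finset.mem_insert, Finset.mem_singleton, not_or] at hn
  exact ⟨hg, hn.1, hn.2.1, hn.2.2, (hc x (by simp)).symm, (hc y (by simp)).symm,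
    (hc z (by simp)).symm⟩

theorem base_of {x y z : G} (t : Tri D x y z) {E : Finset G} (hE : IsBase (PP D x y z) E) :
    IsBase D ({x, y, z} ∪ E) where
  sub a ha := by
    rw [Finset.mem_union] at ha
    rcases ha with ha | ha
    · exact t.mem ha
    · exact (mem_PP.1 (hE.sub a ha)).1
  comm a ha b hb := by
    rw [Finset.mem_union] at ha hb
    rcases ha with ha | ha <;> rcases hb with hb | hb
    · exact t.comm ha hb
    · exact (commute_PP (hE.sub b hb) ha).symm
    · exact commute_PP (hE.sub a ha) hb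
    · exact hE.comm a ha b hb
  max g hg hc := by
    rw [Finset.mem_union]
    by_cases h : g ∈ ({x, y, z} : Finset G)
    · exact Or.inl h
    · right
      refine hE.max g (mem_PP_of hg h fun s hs => hc s (Finset.mem_union_left _ hs)) ?_
      intro a ha
      exact hc a (Finset.mem_union_right _ ha)

theorem of_base {x y z : G} {E : Finset G} (hE : IsBase D E) (hxyz : {x, y, z} ⊆ E) :
    IsBase (PP D x y z) (E \ {x, y, z}) where
  sub a ha := by
    rw [Finset.mem_sdiff] at ha
    exact mem_PP_of (hE.sub a ha.1) ha.2 fun s hs => hE.comm a ha.1 s (hxyz hs)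
  comm a ha b hb := hE.comm a (Finset.mem_sdiff.1 ha).1 b (Finset.mem_sdiff.1 hb).1
  max g hg hc := by
    rw [Finset.mem_sdiff]
    refine ⟨hE.max g (mem_PP.1 hg).1 ?_, not_mem_PP hg⟩
    intro a ha
    by_cases h : a ∈ ({x, y, z} : Finset G)
    · exact commute_PP hg h
    · exact hc a (Finset.mem_sdiff.2 ⟨ha, h⟩)

variable [Fintype G]

theorem cl_union {x y z : G} (t : Tri D x y z) {T : Finset G} (hT : ∀ a ∈ T, a ∈ PP D x y z) :
    cl D ({x, y, z} ∪ T) = {x, y, z} ∪ cl (PP D x y z) T := by
  ext g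
  rw [mem_cl, Finset.mem_union, mem_cl]
  constructor
  · rintro ⟨hg, h⟩
    by_cases hn : g ∈ ({x, y, z} : Finset G)
    · exact Or.inl hn
    · right
      have hc : ∀ s ∈ ({x, y, z} : Finset G), Commute g s := by
        intro s hs
        refine h s (t.mem hs) fun a ha => ?_
        rw [Finset.mem_union] at ha
        rcases ha with ha | ha
        · exact t.comm hs ha
        · exact (commute_PP (hT a ha) hs).symm
      refine ⟨mem_PP_of hg hn hc, fun d hd hdT => h d (mem_PP.1 hd).1 fun s hs => ?_⟩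
      rw [Finset.mem_union] at hs
      rcases hs with hs | hs
      · exact commute_PP hd hs
      · exact hdT s hs
  · rintro (hg | ⟨hg, h⟩)
    · exact ⟨t.mem hg, fun d _ hdS => (hdS g (Finset.mem_union_left _ hg)).symm⟩
    · refine ⟨(mem_PP.1 hg).1, fun d hd hdS => ?_⟩
      by_cases hn : d ∈ ({x, y, z} : Finset G)
      · exact commute_PP hg hn
      · exact h d (mem_PP_of hd hn fun s hs => hdS s (Finset.mem_union_left _ hs))
          fun s hs => hdS s (Finset.mem_union_right _ hs)

omit [Fintype G] in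
theorem CP_sdiff {x y z d : G} {E : Finset G} (hxyz : {x, y, z} ⊆ E)
    (hd : d ∈ PP D x y z) : CP d E = {x, y, z} ∪ CP d (E \ {x, y, z}) := by
  ext a
  rw [mem_CP, Finset.mem_union, mem_CP, Finset.mem_sdiff]
  constructor
  · rintro ⟨h1, h2⟩
    by_cases hn : a ∈ ({x, y, z} : Finset G)
    · exact Or.inl hn
    · exact Or.inr ⟨⟨h1, hn⟩, h2⟩
  · rintro (h1 | h1)
    · exact ⟨hxyz h1, commute_PP hd h1⟩
    · exact ⟨h1.1.1, h1.2⟩

omit [Fintype G] in
theorem tri_of {E : Finset G} (hE : IsBase D E) {x y z : G} (hxy : x ≠ y) (hxz : x ≠ z)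
    (hyz : y ≠ z) (h : {x, y, z} ⊆ E) : Tri D x y z := by
  have hx : x ∈ E := h (by simp)
  have hy : y ∈ E := h (by simp)
  have hz : z ∈ E := h (by simp)
  exact ⟨hE.sub x hx, hE.sub y hy, hE.sub z hz, hxy, hxz, hyz, hE.comm x hx y hy,
    hE.comm x hx z hz, hE.comm y hy z hz⟩

omit [Fintype G] in
theorem exists_udata (h8 : IsT8 D) {x y z : G} (t : Tri D x y z) :
    ∃ (F : Type) (_ : Field F) (_ : Fintype F) (f : G → Fin 6 → F),
      Fintype.card F = 2 ^ 2 ∧ UData (PP D x y z) f := by
  have h1 := ((h8.2.1 x t.hx).2.1 y ⟨t.hy, t.xy.symm, t.cxy⟩).2.1 z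
    ⟨⟨t.hz, t.xz.symm, t.cxz⟩, t.yz.symm, t.cyz⟩
  obtain ⟨F, iF, iF', f, hF, h2, h3, h4, h5, h6⟩ := h1
  exact ⟨F, iF, iF', f, by rw [hF]; norm_num, h2, h3, h4, h5, h6⟩

omit [Group G] [Fintype G] in
/-- the sets of five elements of a base -/
theorem five {S : Finset G} (h5 : S.card = 5) : ∃ x y z u v : G, x ≠ y ∧ x ≠ z ∧ y ≠ z ∧
    u ≠ v ∧ u ∉ ({x, y, z} : Finset G) ∧ v ∉ ({x, y, z} : Finset G) ∧
      S = {x, y, z} ∪ {u, v} := by
  obtain ⟨T, hTS, hT⟩ := Finset.exists_subset_card_eq (by omega : 3 ≤ S.card)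
  obtain ⟨x, y, z, hxy, hxz, hyz, rfl⟩ := Finset.card_eq_three.1 hT
  have h2 : (S \ {x, y, z}).card = 2 := by
    rw [Finset.card_sdiff_of_subset hTS, h5, hT]
  obtain ⟨u, v, huv, h3⟩ := Finset.card_eq_two.1 h2
  refine ⟨x, y, z, u, v, hxy, hxz, hyz, huv, ?_, ?_, ?_⟩
  · have : u ∈ S \ {x, y, z} := by rw [h3]; simp
    exact (Finset.mem_sdiff.1 this).2
  · have : v ∈ S \ {x, y, z} := by rw [h3]; simp
    exact (Finset.mem_sdiff.1 this).2
  · rw [← h3, Finset.union_sdiff_of_subset hTS]

/-- **the local data for the parity argument** -/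
theorem t8data (hfd : FData D) (h8 : IsT8 D) : T8Data D where
  fd := hfd
  card := by
    rw [← h8.1, Set.ncard_eq_toFinset_card']
    congr 1
    ext x
    simp
  card2 := by
    intro x hx y hy hxy hc
    have h1 := ((h8.2.1 x hx).2.1 y ⟨hy, hxy.symm, hc⟩).1
    rw [← h1, Set.ncard_eq_toFinset_card']
    congr 1
    ext d
    rw [Finset.mem_filter, Set.mem_toFinset]
    constructor
    · rintro ⟨-, h1, h2, h3, h4, h5⟩
      exact ⟨⟨h1, h2, h4.symm⟩, h3, h5.symm⟩
    · rintro ⟨⟨h1, h2, h4⟩, h3, h5⟩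
      exact ⟨Finset.mem_univ _, h1, h2, h3, h4.symm, h5.symm⟩
  base24 := by
    intro E hE
    -- three different members of `E`
    obtain ⟨x, hxE⟩ : ∃ x, x ∈ E := by
      by_contra hcon
      push Not at hcon
      obtain ⟨d, hd⟩ := hfd.nonempty
      exact hcon d (hE.max d hd fun a ha => absurd ha (hcon a))
    have hx := hE.sub x hxE
    have hne1 : (Loc D x).Nonempty := by
      rw [← Set.ncard_pos (Set.toFinite _), (h8.2.1 x hx).1]
      norm_num
    obtain ⟨y, hyE, hyx⟩ : ∃ y ∈ E, y ≠ x := by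
      by_contra hcon
      push Not at hcon
      obtain ⟨d, hd, hdx, hdc⟩ := hne1
      exact hdx (hcon d (hE.max d hd fun a ha => by rw [hcon a ha]; exact hdc.symm))
    have hy := hE.sub y hyE
    have hc := hE.comm x hxE y hyE
    have hne2 : (Loc (Loc D x) y).Nonempty := by
      rw [← Set.ncard_pos (Set.toFinite _), ((h8.2.1 x hx).2.1 y ⟨hy, hyx, hc⟩).1]
      norm_num
    obtain ⟨z, hzE, hzx, hzy⟩ : ∃ z ∈ E, z ≠ x ∧ z ≠ y := by
      by_contra hcon
      push Not at hcon
      obtain ⟨d, ⟨hd, hdx, hdc⟩, hdy, hdc'⟩ := hne2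
      refine hdy (hcon d (hE.max d hd fun a ha => ?_) hdx)
      by_cases hax : a = x
      · rw [hax]; exact hdc.symm
      · rw [hcon a ha hax]; exact hdc'.symm
    have hsub : ({x, y, z} : Finset G) ⊆ E := by
      intro a ha
      simp only [Finset.mem_insert, Finset.mem_singleton] at ha
      rcases ha with rfl | rfl | rfl <;> assumption
    have t := tri_of hE hyx.symm hzx.symm hzy.symm hsub
    obtain ⟨F, iF, iF', f, hF, U⟩ := exists_udata h8 t
    have h1 := card_base hF U (of_base hE hsub)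
    have h3 : ({x, y, z} : Finset G).card = 3 :=
      Finset.card_eq_three.2 ⟨x, y, z, hyx.symm, hzx.symm, hzy.symm, rfl⟩
    rw [Finset.card_sdiff_of_subset hsub, h3] at h1
    omega
  cl5 := by
    intro E hE S hS h5
    obtain ⟨x, y, z, u, v, hxy, hxz, hyz, huv, hu, hv, rfl⟩ := five h5
    have hsub : ({x, y, z} : Finset G) ⊆ E := Finset.subset_union_left.trans hS
    have huE : u ∈ E := hS (Finset.mem_union_right _ (by simp))
    have hvE : v ∈ E := hS (Finset.mem_union_right _ (by simp))
    have t := tri_of hE hxy hxz hyz hsub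
    have hb := of_base hE hsub
    have huP := hb.sub u (Finset.mem_sdiff.2 ⟨huE, hu⟩)
    have hvP := hb.sub v (Finset.mem_sdiff.2 ⟨hvE, hv⟩)
    obtain ⟨F, iF, iF', f, hF, U⟩ := exists_udata h8 t
    have h3 : ({x, y, z} : Finset G).card = 3 :=
      Finset.card_eq_three.2 ⟨x, y, z, hxy, hxz, hyz, rfl⟩
    rw [cl_union t (by
      intro a ha
      simp only [Finset.mem_insert, Finset.mem_singleton] at ha
      rcases ha with rfl | rfl
      · exact huP
      · exact hvP), Finset.card_union_of_disjoint, h3,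
      card_cl_pair hF U huP hvP huv (hE.comm u huE v hvE)]
    rw [Finset.disjoint_right]
    intro a ha
    exact not_mem_PP (mem_cl.1 ha).1
  three := by
    intro E hE d hd hdE h3
    obtain ⟨T, hT, hT3⟩ := Finset.exists_subset_card_eq h3
    obtain ⟨x, y, z, hxy, hxz, hyz, rfl⟩ := Finset.card_eq_three.1 hT3
    have hsub : ({x, y, z} : Finset G) ⊆ E := fun a ha => (mem_CP.1 (hT ha)).1
    have t := tri_of hE hxy hxz hyz hsub
    have hb := of_base hE hsub
    have hdP : d ∈ PP D x y z :=
      mem_PP_of hd (fun h => hdE (hsub h)) fun s hs => (mem_CP.1 (hT hs)).2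
    obtain ⟨F, iF, iF', f, hF, U⟩ := exists_udata h8 t
    obtain ⟨u, hu, v, hv, huv, hCP⟩ := exists_line hF U hb hdP
      (fun h => hdE (Finset.mem_sdiff.1 h).1)
    have huP := hb.sub u hu
    have hvP := hb.sub v hv
    rw [Finset.mem_sdiff] at hu hv
    rw [mem_Oct]
    refine ⟨{x, y, z} ∪ {u, v}, ?_, ?_, ?_⟩
    · refine Finset.union_subset hsub ?_
      intro a ha
      simp only [Finset.mem_insert, Finset.mem_singleton] at ha
      rcases ha with rfl | rfl
      · exact hu.1
      · exact hv.1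
    · rw [Finset.card_union_of_disjoint, hT3, Finset.card_pair huv]
      rw [Finset.disjoint_right]
      intro a ha
      simp only [Finset.mem_insert, Finset.mem_singleton] at ha
      rcases ha with rfl | rfl
      · exact hu.2
      · exact hv.2
    · rw [CP_sdiff hsub hdP, hCP, cl_union t]
      intro a ha
      simp only [Finset.mem_insert, Finset.mem_singleton] at ha
      rcases ha with rfl | rfl
      · exact huP
      · exact hvP
  split := by
    intro E hE O hO
    obtain ⟨S, hS, h5, rfl⟩ := mem_Oct.1 hO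
    obtain ⟨x, y, z, u, v, hxy, hxz, hyz, huv, hu, hv, rfl⟩ := five h5
    have hsub : ({x, y, z} : Finset G) ⊆ E := Finset.subset_union_left.trans hS
    have huE : u ∈ E := hS (Finset.mem_union_right _ (by simp))
    have hvE : v ∈ E := hS (Finset.mem_union_right _ (by simp))
    have t := tri_of hE hxy hxz hyz hsub
    have hb := of_base hE hsub
    have hu' := Finset.mem_sdiff.2 ⟨huE, hu⟩
    have hv' := Finset.mem_sdiff.2 ⟨hvE, hv⟩
    have huP := hb.sub u hu'
    have hvP := hb.sub v hv'
    obtain ⟨F, iF, iF', f, hF, U⟩ := exists_udata h8 t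
    obtain ⟨B₁, B₂, hd, h1, h2, h3, h4, h6⟩ := exists_split hF U hb hu' hv' huv
    have hcl : cl D ({x, y, z} ∪ {u, v}) = {x, y, z} ∪ cl (PP D x y z) {u, v} := by
      apply cl_union t
      intro a ha
      simp only [Finset.mem_insert, Finset.mem_singleton] at ha
      rcases ha with rfl | rfl
      · exact huP
      · exact hvP
    refine ⟨B₁, B₂, hd, h1, h2, ?_, ?_, ?_⟩
    · rw [h3, hcl]
      ext d
      rw [mem_Del, mem_Del]
      constructor
      · rintro ⟨k1, k2, k3⟩
        refine ⟨(mem_PP.1 k1).1, ?_, by rw [CP_sdiff hsub k1, k3]⟩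
        intro hdE
        exact k2 (Finset.mem_sdiff.2 ⟨hdE, not_mem_PP k1⟩)
      · rintro ⟨k1, k2, k3⟩
        have hdP : d ∈ PP D x y z := by
          refine mem_PP_of k1 (fun h => k2 (hsub h)) fun s hs => ?_
          have : s ∈ CP d E := by rw [k3]; exact Finset.mem_union_left _ hs
          exact (mem_CP.1 this).2
        refine ⟨hdP, fun h => k2 (Finset.mem_sdiff.1 h).1, ?_⟩
        rw [CP_sdiff hsub hdP] at k3
        -- cancel the common part
        ext a
        have h7 : a ∈ ({x, y, z} : Finset G) ∪ CP d (E \ {x, y, z}) ↔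
            a ∈ ({x, y, z} : Finset G) ∪ cl (PP D x y z) {u, v} := by rw [k3]
        rw [Finset.mem_union, Finset.mem_union] at h7
        constructor
        · intro ha
          have hna := (Finset.mem_sdiff.1 (mem_CP.1 ha).1).2
          exact (h7.1 (Or.inr ha)).resolve_left hna
        · intro ha
          have hna := not_mem_PP (mem_cl.1 ha).1
          exact (h7.2 (Or.inr ha)).resolve_left hna
    · rw [hcl, Finset.union_assoc]
      exact base_of t h4
    · rw [hcl, Finset.union_assoc]
      exact base_of t h6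

end

/-- **A 3-transposition group of type `Fi24` is not perfect.** -/
theorem commutator_ne_top {G : Type*} [Group G] [Finite G] {D : Set G}
    (hD : Cfsg.IsThreeTranspositionClass D) (h8 : IsT8 D) : commutator G ≠ ⊤ := by
  have := Fintype.ofFinite G
  exact (t8data (fdata_of_class hD) h8).commutator_ne_top

/-- **A simple 3-transposition group is not of type `Fi24`.** -/
theorem not_simple {G : Type*} [Group G] [Finite G] {D : Set G}
    (hD : Cfsg.IsThreeTranspositionClass D) (h8 : IsT8 D) : ¬ IsSimpleGroup G := by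
  intro hs
  have h1 := commutator_ne_top hD h8
  have h2 : commutator G = ⊥ :=
    (IsSimpleGroup.eq_bot_or_eq_top_of_normal (commutator G) inferInstance).resolve_right h1
  have hcomm : ∀ a b : G, Commute a b := by
    intro a b
    have h3 : ⁅a, b⁆ ∈ commutator G :=
      Subgroup.commutator_mem_commutator (Subgroup.mem_top a) (Subgroup.mem_top b)
    rw [h2, Subgroup.mem_bot, commutatorElement_eq_one_iff_commute] at h3
    exact h3
  -- then all members of `D` are conjugate, hence equal
  obtain ⟨x, hx⟩ := (fdata_of_class hD).nonempty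
  have h3 : D = {x} := by
    ext y
    rw [Set.mem_singleton_iff]
    constructor
    · intro hy
      obtain ⟨g, rfl⟩ := (fdata_of_class hD).single x hx y hy
      rw [(hcomm g x).eq, mul_inv_cancel_right]
    · rintro rfl
      exact hx
  have h4 := h8.1
  rw [h3, Set.ncard_singleton] at h4
  omega

end Cfsg.Agent.Fischer545.TEight
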